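import Groth.Agent.Lib.BorelLam21.Ray
import Groth.Agent.Lib.UInvFG21.Torus
import Groth.Agent.Lib.TorPts21.Structure

/-!
# Limits, finite index of identity components, subtori
-/

set_option autoImplicit false
set_option linter.style.haveILetI false
set_option backward.isDefEq.respectTransparency.types false
universe u

open CategoryTheory Limits MonoidalCategory CartesianMonoidalCategory MonObj AlgebraicGeometry Polynomial

noncomputable section

namespace Groth.Agent.BorelLam21

open MatGrp21 InvRing21 DiagGL TorPts21 BigCell21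

attribute [local instance] InvRing21.gamAlg BorelFix21.ptsTop

variable {k : Type u} [Field k] [IsAlgClosed k] {n d : ℕ} {G T : Over (Spec (CommRingCat.of k))} [GrpObj G]
  [GrpObj T]

/-- Powers of a unit detect exponents over an infinite field. -/
theorem eq_zero_of_zpow {e : ℤ} (h : ∀ s : kˣ, s ^ e = 1) : e = 0 := by
  by_contra he
  have hm : e.natAbs ≠ 0 := Int.natAbs_ne_zero.2 he
  have hall : ∀ s : k, s ≠ 0 → s ^ e.natAbs = 1 := fun s hs => by
    have h1 := h (Units.mk0 s hs)
    rcases Int.natAbs_eq e with h2 | h2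
    · rw [h2, zpow_natCast] at h1
      exact congrArg Units.val h1
    · rw [h2, zpow_neg, zpow_natCast, inv_eq_one] at h1
      exact congrArg Units.val h1
  have hinf : {s : k | (X ^ e.natAbs - C 1 : k[X]).IsRoot s}.Infinite :=
    (Set.finite_singleton (0 : k)).infinite_compl.mono fun s hs => by simp [IsRoot, hall s hs]
  exact X_pow_sub_C_ne_zero (Nat.pos_of_ne_zero hm) 1 (eq_zero_of_infinite_isRoot _ hinf)

theorem zpow_inj {e e' : ℤ} (h : ∀ s : kˣ, s ^ e = s ^ e') : e = e' :=
  sub_eq_zero.1 (eq_zero_of_zpow fun s => by rw [zpow_sub, h, mul_inv_cancel])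

/-- Every point has a bounded power in an open subgroup. -/
theorem exists_pow_mem {Z Z₀ : Over (Spec (CommRingCat.of k))} [GrpObj Z] [GrpObj Z₀] [IsAffine Z.left]
    [LocallyOfFiniteType Z.hom] (j : Z₀ ⟶ Z) [IsMonHom j] [IsOpenImmersion j.left] :
    ∃ N : ℕ, 0 < N ∧ ∀ h : VecGrp.pt k k ⟶ Z, ∃ y, y ≫ j = h ^ N := by
  classical
  obtain ⟨s, hs⟩ := exists_finite_cosets j
  refine ⟨s.card.factorial, Nat.factorial_pos _, fun h => ?_⟩
  choose c hc y hy using fun i : ℕ => hs (h ^ i)
  obtain ⟨a, ha, b, hb, hab, he⟩ := Finset.exists_ne_map_eq_of_card_lt_of_maps_to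
    (s := Finset.range (s.card + 1)) (t := s) (f := c) (by simp) fun i _ => hc i
  rw [Finset.mem_range] at ha hb
  have key : ∀ i j', i < j' → j' ≤ s.card → c i = c j' → ∃ z, z ≫ j = h ^ s.card.factorial := by
    intro i j' hlt hle hij
    have h1 : ((y i)⁻¹ * y j') ≫ j = h ^ (j' - i) := by
      rw [MonObj.mul_comp, GrpObj.inv_comp, hy, hy, hij, mul_inv_rev, _root_.mul_assoc ((h ^ i)⁻¹) (c j')⁻¹, inv_mul_cancel_left,
        inv_mul_eq_iff_eq_mul, ← pow_add, Nat.add_sub_cancel' hlt.le]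
    obtain ⟨m, hm⟩ := Nat.dvd_factorial (show 0 < j' - i by omega) (show j' - i ≤ s.card by omega)
    refine ⟨((y i)⁻¹ * y j') ^ m, ?_⟩
    rw [hm, pow_mul, ← h1]
    exact map_pow (MonoidHom.mk' (fun y : VecGrp.pt k k ⟶ Z₀ => y ≫ j) fun a b => MonObj.mul_comp a b j) _ m
  rcases lt_or_gt_of_ne hab with h' | h'
  · exact key a b h' (by omega) he
  · exact key b a h' (by omega) he.symm

/-- A connected smooth closed subgroup of a torus is a torus. -/
theorem isTorus_of_closed {σ : Over (Spec (CommRingCat.of k))} [GrpObj σ] (hT : Red.IsTorus T) (j : σ ⟶ T) [IsMonHom j]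
    [IsClosedImmersion j.left] [Smooth σ.hom] [ConnectedSpace σ.left] : Red.IsTorus σ := by
  obtain ⟨ha, hs, hn, -⟩ := props_of_isTorus hT
  haveI := ha
  haveI := hs
  haveI := hn
  haveI : IsAffine σ.left := isAffine_of_isAffineHom j.left
  obtain ⟨d, ⟨C⟩⟩ := exists_chars hT
  haveI : Mono j := Over.mono_of_mono_left j
  have hcomm : ∀ x y : VecGrp.pt k k ⟶ σ, x * y = y * x := fun x y => (cancel_mono j).1 (by
    rw [MonObj.mul_comp, MonObj.mul_comp, (commute_of_chars C (x ≫ j) (y ≫ j)).eq])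
  have hn' : AlgGrp.IsNormalHom j := fun X g x => ⟨x, by
    rw [(commute_of_chars C g (x ≫ j)).eq, mul_inv_cancel_right]⟩
  refine isTorus_of_solvable_reductive (isReductiveOver_normal (UInvFG21.isReductiveOver_torus hT) hn') ?_
  letI : CommGroup (VecGrp.pt k k ⟶ σ) :=
    { (inferInstance : Group (VecGrp.pt k k ⟶ σ)) with mul_comm := hcomm }
  exact BorelFix21.isSolvableGrp_of_points inferInstance

variable [IsAffine G.left] [Smooth G.hom] [ConnectedSpace G.left] {iT : T ⟶ G} (C : Chars (Fin d → ℤ) T)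
  {r : G ⟶ GLs k n} [IsMonHom r] [IsClosedImmersion r.left] {a : Fin n → Fin d → ℤ} {b : Fin d → ℤ}
  (hG : Red.IsReductiveOver k G) (hT : AGF.IsMaxTorus iT)
  (hdiag : ∀ τ : VecGrp.pt k k ⟶ T, (mtxFn r (τ ≫ iT) : Matrix (Fin n) (Fin n) k) =
    Matrix.diagonal fun j => ptChr C τ (Multiplicative.ofAdd (a j)))
  (hsep : ∀ i j, wt a b i = wt a b j → a i = a j)

include hG hT hdiag hsep in
/-- Limits lie in the torus. -/
theorem lim_mem_torus (x : VecGrp.pt k k ⟶ G) (hx : x ∈ upPts r (wt a b)) (z : VecGrp.pt k k ⟶ G)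
    (hz : (mtxFn r z : Matrix (Fin n) (Fin n) k) = curveAt (wt a b) (mtxFn r x : Matrix (Fin n) (Fin n) k) 0) :
    ∃ τ : VecGrp.pt k k ⟶ T, τ ≫ iT = z := by
  obtain ⟨τ, hτ⟩ := BigCell21.exists_limit C hdiag hsep (cent_iff hG hT) hx
  exact ⟨τ, mtxFn_injective r (Units.ext (hτ.trans hz.symm))⟩

include hG hT hdiag hsep in
/-- A Borel subgroup containing the contracted points. -/
theorem exists_borel_ge : ∃ (B : Over (Spec (CommRingCat.of k))) (_ : GrpObj B) (iB : B ⟶ G),
    Red.IsBorelOver k iB ∧ ∀ x ∈ upPts r (wt a b), ∃ y, y ≫ iB = x := by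
  haveI := hT.1
  haveI := hT.2.1
  obtain ⟨hTa, hTs, hTn, -⟩ := props_of_isTorus hT.2.2.1
  haveI := hTa
  haveI := hTs
  haveI := hTn
  haveI : Group.IsSolvable (VecGrp.pt k k ⟶ T) := by
    letI : CommGroup (VecGrp.pt k k ⟶ T) :=
      { (inferInstance : Group (VecGrp.pt k k ⟶ T)) with mul_comm := fun x y => commute_of_chars C x y }
    infer_instance
  obtain ⟨Zp, _, jp, hjp, hjpc, hps, hpn, hpsol, hppts⟩ := exists_upperGroup C hdiag hsep (cent_iff hG hT)
  haveI := hjp
  haveI := hjpc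
  haveI := hps
  haveI := hpn
  obtain ⟨B, _, iB, f, hB, hf⟩ := BorelFix21.exists_le_borel jp hpsol
  refine ⟨B, inferInstance, iB, hB, fun x hx => ?_⟩
  obtain ⟨y, rfl⟩ := (hppts x).2 hx
  exact ⟨y ≫ f, by rw [Category.assoc, hf]⟩

omit [IsAlgClosed k] [ConnectedSpace G.left] [IsClosedImmersion r.left] [IsAffine G.left] [Smooth G.hom] in
variable (r) in
/-- The points contracted to the identity. -/
def upPts₁ (w : Fin n → ℤ) : Subgroup (VecGrp.pt k k ⟶ G) where
  carrier := {x | IsUp₁ w (mtxFn r x : Matrix (Fin n) (Fin n) k)}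
  one_mem' := by
    show IsUp₁ w _
    rw [← mtx_apply, map_one, Units.val_one]
    exact ⟨fun i j h => Matrix.one_apply_ne fun e => h.ne (congrArg w e), fun _ _ _ => rfl⟩
  mul_mem' {x y} hx hy := by
    have hxy : x * y ∈ upPts r w := mul_mem (show x ∈ upPts r w from hx.1) hy.1
    refine ⟨hxy, fun i j h => ?_⟩
    have hz : ∀ {M : Matrix (Fin n) (Fin n) k}, IsUp₁ w M → curveAt w M 0 = 1 := fun {M} hM => by
      ext i j
      rw [curveAt_zero_apply hM.1]
      split_ifs with e
      · exact hM.2 i j e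
      · exact (Matrix.one_apply_ne fun e' => e (congrArg w e')).symm
    have hmul := curveAt_zero_mul (w := w) hx.1 hy.1 (by
      have := (mem_upPts r).1 hxy
      rwa [← mtx_apply, map_mul, Units.val_mul] at this)
    have h2 := congrFun (congrFun hmul i) j
    rw [hz hx, hz hy, _root_.one_mul, curveAt_zero_apply (by
      have := (mem_upPts r).1 hxy
      rwa [← mtx_apply, map_mul, Units.val_mul] at this), if_pos h] at h2
    rw [← mtx_apply, map_mul, Units.val_mul]
    exact h2
  inv_mem' {x} hx := by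
    have hxi : x⁻¹ ∈ upPts r w := inv_mem (show x ∈ upPts r w from hx.1)
    refine ⟨hxi, fun i j h => ?_⟩
    have h1 : (mtxFn r x : Matrix (Fin n) (Fin n) k) * (mtxFn r x⁻¹ : Matrix (Fin n) (Fin n) k) = 1 := by
      show ((mtx r x : GL (Fin n) k) : Matrix (Fin n) (Fin n) k) * ((mtx r x⁻¹ : GL (Fin n) k) : Matrix (Fin n) (Fin n) k) = 1
      rw [← Units.val_mul, ← map_mul, mul_inv_cancel, map_one, Units.val_one]
    have hone : curveAt w (1 : Matrix (Fin n) (Fin n) k) 0 = 1 := by
      ext i j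
      rw [curveAt_apply]
      by_cases e : i = j
      · subst e; simp
      · rw [Matrix.one_apply_ne e, zero_mul]
    have hxi' : IsUp w (mtxFn r x⁻¹ : Matrix (Fin n) (Fin n) k) := hxi
    have hmul := curveAt_zero_mul (w := w) hx.1 hxi' (by
      rw [h1]; exact fun i j h => Matrix.one_apply_ne fun e => h.ne (congrArg w e))
    rw [h1, hone, show curveAt w (mtxFn r x : Matrix (Fin n) (Fin n) k) 0 = 1 from by
      ext i j
      rw [curveAt_zero_apply hx.1]
      split_ifs with e
      · exact hx.2 i j e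
      · exact (Matrix.one_apply_ne fun e' => e (congrArg w e')).symm, _root_.one_mul] at hmul
    have h2 := congrFun (congrFun hmul i) j
    rw [curveAt_zero_apply hxi', if_pos h] at h2
    exact h2.symm

theorem isClosed_upPts₁ (w : Fin n → ℤ) : IsClosed (upPts₁ r w : Set (VecGrp.pt k k ⟶ G)) := by
  have : (upPts₁ r w : Set (VecGrp.pt k k ⟶ G)) = mtxFn r ⁻¹' ((blockUp (k := k) w : Set (GL (Fin n) k)) ∩
      ⋂ (i : Fin n) (j : Fin n) (_ : w i = w j),
        {g : GL (Fin n) k | (g : Matrix (Fin n) (Fin n) k) i j = (1 : Matrix (Fin n) (Fin n) k) i j}) := by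
    ext x
    simp [upPts₁, IsUp₁, mem_blockUp]
  rw [this]
  exact ((isClosed_blockUp w).inter (isClosed_iInter fun i => isClosed_iInter fun j => isClosed_iInter fun _ =>
    MatGrp21.isClosed_eq (isReg_entry i j) (isReg_const _))).preimage (continuous_mtxFn r)

end Groth.Agent.BorelLam21
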