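import Groth.Agent.Lib.BigCell21.Cell
import Mathlib.LinearAlgebra.LinearIndependent.Defs
import Mathlib.LinearAlgebra.LinearIndependent.Basic
import Mathlib.LinearAlgebra.Finsupp.LinearCombination

/-!
# Points of a matrix group contracted by a one parameter subgroup
-/

set_option autoImplicit false
set_option linter.style.haveILetI false
set_option backward.isDefEq.respectTransparency.types false
universe u

open CategoryTheory Limits MonoidalCategory CartesianMonoidalCategory MonObj AlgebraicGeometry Polynomial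

noncomputable section

namespace Groth.Agent.BorelLam21

open MatGrp21 InvRing21 DiagGL TorPts21 BigCell21

attribute [local instance] InvRing21.gamAlg BorelFix21.ptsTop

variable {k : Type u} [Field k] {n : ℕ}

local notation "Mat" => Matrix (Fin n) (Fin n) k
local notation "GLk" => GL (Fin n) k

/-- A matrix whose conjugates under the one parameter group form a polynomial curve is contracted. -/
theorem isUp_of_poly [Infinite k] {w : Fin n → ℤ} {g : GLk} (Y : Matrix (Fin n) (Fin n) k[X])
    (h : ∀ (s : kˣ) (d : GLk), (d : Mat) = dg w s → ((d * g * d⁻¹ : GLk) : Mat) = Y.map (eval (s : k))) :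
    IsUp w (g : Mat) := by
  intro i j hij
  obtain ⟨m, hm, hmw⟩ : ∃ m : ℕ, m ≠ 0 ∧ w i + (m : ℤ) = w j := ⟨(w j - w i).toNat, by omega, by omega⟩
  have hpoly : C ((g : Mat) i j) = Y i j * X ^ m := by
    refine eq_of_infinite_eval_eq _ _ ((Set.finite_singleton (0 : k)).infinite_compl.mono fun s hs => ?_)
    show eval s _ = eval s _
    let d : GLk := Matrix.GeneralLinearGroup.mkOfDetNeZero (dg w (Units.mk0 s hs)) (by
      rw [dg, Matrix.det_diagonal]
      exact Finset.prod_ne_zero_iff.2 fun i _ => Units.ne_zero _)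
    have hd : (d : Mat) = dg w (Units.mk0 s hs) := rfl
    have h1 : ((d * g : GLk) : Mat) = ((d * g * d⁻¹ * d : GLk) : Mat) := by rw [inv_mul_cancel_right]
    rw [Units.val_mul, Units.val_mul (d * g * d⁻¹), h _ d hd, hd] at h1
    have h2 := congrFun (congrFun h1 i) j
    rw [dg, Matrix.diagonal_mul, Matrix.mul_diagonal, Matrix.map_apply] at h2
    rw [eval_C, eval_mul, eval_pow, eval_X]
    refine mul_left_cancel₀ (Units.ne_zero (Units.mk0 s hs ^ w i)) (h2.trans ?_)
    rw [← hmw, zpow_add, zpow_natCast, Units.val_mul, Units.val_pow_eq_pow_val, Units.val_mk0]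
    simp only [Units.val_zpow_eq_zpow_val, Units.val_mk0]
    ring
  have := congrArg (fun p => coeff p 0) hpoly
  simpa [coeff_C, coeff_mul_X_pow', hm, Ne.symm hm] using this

/-- The number of indices of smaller weight. -/
def rk (w : Fin n → ℤ) (i : Fin n) : ℕ := (Finset.univ.filter fun l => w l < w i).card

theorem rk_lt (w : Fin n → ℤ) (i : Fin n) : rk w i < n := by
  have h : (Finset.univ.filter fun l => w l < w i) ⊂ (Finset.univ : Finset (Fin n)) :=
    Finset.filter_ssubset.2 ⟨i, Finset.mem_univ _, lt_irrefl _⟩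
  simpa [rk] using Finset.card_lt_card h

theorem rk_lt_rk {w : Fin n → ℤ} {i j : Fin n} (h : w i < w j) : rk w i < rk w j := by
  refine Finset.card_lt_card ⟨fun l hl => ?_, fun hsub => ?_⟩
  · simp only [Finset.mem_filter] at hl ⊢
    exact ⟨hl.1, hl.2.trans h⟩
  · simpa using hsub (Finset.mem_filter.2 ⟨Finset.mem_univ i, h⟩)

/-- The matrices contracted to the identity. -/
def IsUp₁ (w : Fin n → ℤ) (M : Mat) : Prop := IsUp w M ∧ ∀ i j, w i = w j → M i j = (1 : Mat) i j

theorem isUnip_of_isUp₁ {w : Fin n → ℤ} {g : GLk} (hg : IsUp₁ w (g : Mat)) : IsUnip g := by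
  have hN : ∀ m i j, (((g : Mat) - 1) ^ m) i j ≠ 0 → rk w j + m ≤ rk w i := by
    intro m
    induction m with
    | zero =>
      intro i j h
      rw [pow_zero] at h
      by_cases e : i = j
      · rw [e]; simp
      · exact absurd (Matrix.one_apply_ne e) h
    | succ m ih =>
      intro i j h
      rw [pow_succ, Matrix.mul_apply] at h
      obtain ⟨l, -, hl⟩ := Finset.exists_ne_zero_of_sum_ne_zero h
      obtain ⟨h1, h2⟩ := ne_zero_and_ne_zero_of_mul hl
      rw [Matrix.sub_apply] at h2
      have h3 : w j < w l := by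
        rcases lt_trichotomy (w l) (w j) with e | e | e
        · refine absurd ?_ h2
          rw [hg.1 l j e, Matrix.one_apply_ne fun e' => e.ne (congrArg w e'), sub_zero]
        · exact absurd (sub_eq_zero.2 (hg.2 l j e)) h2
        · exact e
      have := ih i l h1
      have := rk_lt_rk h3
      omega
  show ((g : Mat) - 1) ^ n = 0
  ext i j
  by_contra h
  have h1 := hN n i j h
  have := rk_lt w i
  omega

variable {G : Over (Spec (CommRingCat.of k))} [GrpObj G] (r : G ⟶ GLs k n) [IsMonHom r]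

/-- The points contracted by the weights `w`. -/
def upPts (w : Fin n → ℤ) : Subgroup (VecGrp.pt k k ⟶ G) := (blockUp (k := k) w).comap (mtx r)

theorem mem_upPts {w : Fin n → ℤ} {x : VecGrp.pt k k ⟶ G} : x ∈ upPts r w ↔ IsUp w (mtxFn r x : Mat) := Iff.rfl

/-- A family of points acting as the one parameter group. -/
def IsLam (w : Fin n → ℤ) (lam : kˣ → (VecGrp.pt k k ⟶ G)) : Prop := ∀ s, (mtxFn r (lam s) : Mat) = dg w s

variable {r}

theorem conj_lam {w : Fin n → ℤ} {lam : kˣ → (VecGrp.pt k k ⟶ G)} (hlam : IsLam r w lam)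
    {x : VecGrp.pt k k ⟶ G} (hx : x ∈ upPts r w) (s : kˣ) :
    (mtxFn r (lam s * x * (lam s)⁻¹) : Mat) = curveAt w (mtxFn r x : Mat) (s : k) := by
  rw [← conj_eq_curveAt (hlam s) (mem_upPts r |>.1 hx), ← mtx_apply, map_mul, map_mul, map_inv]
  rfl

/-- A closed set containing the conjugates contains all the points of the curve. -/
theorem exists_curve_pt [IsAlgClosed k] [IsAffine G.left] [IsClosedImmersion r.left] {w : Fin n → ℤ}
    {lam : kˣ → (VecGrp.pt k k ⟶ G)} (hlam : IsLam r w lam) {x : VecGrp.pt k k ⟶ G} (hx : x ∈ upPts r w)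
    {S : Set (VecGrp.pt k k ⟶ G)} (hS : IsClosed S) (hxS : ∀ s : kˣ, lam s * x * (lam s)⁻¹ ∈ S) (t : k) :
    ∃ y ∈ S, y ∈ upPts r w ∧ (mtxFn r y : Mat) = curveAt w (mtxFn r x : Mat) t := by
  obtain ⟨g, hg⟩ := exists_curveGL (g := mtxFn r x) hx t
  have hlamUp : ∀ s, lam s ∈ upPts r w := fun s i j h => by
    show (mtxFn r (lam s) : Mat) i j = 0
    rw [hlam]
    exact Matrix.diagonal_apply_ne _ fun e => h.ne (congrArg w e)
  obtain ⟨⟨y, hy, rfl⟩, hyu⟩ := mem_of_infinite
    ((isClosed_image_mtxFn r hS).inter (isClosed_blockUp (k := k) w)) (curve w (mtxFn r x : Mat))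
    ((Set.finite_singleton (0 : k)).infinite_compl.mono fun s hs =>
      ⟨_, ⟨⟨_, hxS (Units.mk0 s hs), rfl⟩, (mul_mem (mul_mem (hlamUp _) hx) (inv_mem (hlamUp _)) :
        lam _ * x * (lam _)⁻¹ ∈ upPts r w)⟩, conj_lam hlam hx (Units.mk0 s hs)⟩) hg
  exact ⟨y, hy, hyu, hg⟩

/-- A monomial which is a combination of monomials is one of them. -/
theorem exists_eq_zpow {I : Type*} [Fintype I] (χ : kˣ →* k) (c : I → k) (w : I → ℤ)
    (h : ∀ s : kˣ, χ s = ∑ l, c l * ((s ^ w l : kˣ) : k)) (hne : χ 1 ≠ 0) :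
    ∃ l, ∀ s, χ s = ((s ^ w l : kˣ) : k) := by
  classical
  let φ : I → (kˣ →* k) := fun l => (Units.coeHom k).comp (zpowGroupHom (w l))
  by_contra hno
  push Not at hno
  have hli := linearIndependent_monoidHom kˣ k
  have hnot : (χ : kˣ → k) ∉ Submodule.span k ((fun f : kˣ →* k => (f : kˣ → k)) '' Set.range φ) := by
    refine hli.notMem_span_image ?_
    rintro ⟨l, rfl⟩
    obtain ⟨s, hs⟩ := hno l
    exact hs rfl
  refine hnot ?_
  rw [show (χ : kˣ → k) = ∑ l, c l • (φ l : kˣ → k) from funext fun s => by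
    rw [h s, Finset.sum_apply]; rfl]
  exact Submodule.sum_mem _ fun l _ => Submodule.smul_mem _ _ (Submodule.subset_span ⟨φ l, ⟨l, rfl⟩, rfl⟩)

end Groth.Agent.BorelLam21
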