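import Groth.Agent.Lib.BorelLam21.Data
import Groth.Agent.Lib.TorPts21.RadicalImage
import Groth.Agent.Lib.UnitsRos.Char

/-!
# Borel subgroups containing a contracted subgroup
-/

set_option autoImplicit false
set_option linter.style.haveILetI false
set_option backward.isDefEq.respectTransparency.types false
universe u

open CategoryTheory Limits MonoidalCategory CartesianMonoidalCategory MonObj AlgebraicGeometry

noncomputable section

namespace Groth.Agent.BorelLam21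

open MatGrp21 InvRing21 DiagGL TorPts21 BigCell21

attribute [local instance] InvRing21.gamAlg BorelFix21.ptsTop

variable {k : Type u} [Field k] [IsAlgClosed k] {n d : ℕ} {G T : Over (Spec (CommRingCat.of k))} [GrpObj G]
  [GrpObj T]

omit [GrpObj T] in
/-- The points of a closed subgroup are closed. -/
theorem isClosed_pts {H : Over (Spec (CommRingCat.of k))} [LocallyOfFiniteType H.hom] [LocallyOfFiniteType G.hom]
    (i : H ⟶ G) [IsClosedImmersion i.left] :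
    IsClosed (Set.range fun x : VecGrp.pt k k ⟶ H => x ≫ i) := by
  have h : (Set.range fun x : VecGrp.pt k k ⟶ H => x ≫ i) = InvRing21.img ⁻¹' Set.range i.left := by
    ext y
    constructor
    · rintro ⟨x, rfl⟩
      exact ⟨InvRing21.img x, rfl⟩
    · rintro ⟨p, hp⟩
      have hsub : Set.range y.left ⊆ Set.range i.left := by
        rintro _ ⟨q, rfl⟩
        obtain rfl : q = IsLocalRing.closedPoint k := Subsingleton.elim (α := Spec (CommRingCat.of k)) _ _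
        exact ⟨p, hp⟩
      haveI : IsReduced (VecGrp.pt k k).left := inferInstanceAs (IsReduced (Spec (CommRingCat.of k)))
      obtain ⟨l, hl⟩ := RedSepLib.exists_lift_of_range_subset y.left i.left fun q hq => hsub hq
      exact ⟨Over.homMk l (by rw [← Over.w i, ← Category.assoc, hl, Over.w]), Over.OverMorphism.ext hl⟩
  rw [h]
  exact (i.left.isClosedEmbedding.isClosed_range).preimage continuous_induced_dom

variable [IsAffine G.left] [Smooth G.hom]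

/-- In a reductive group a maximal torus is its own centraliser. -/
theorem cent_iff [ConnectedSpace G.left] (hG : Red.IsReductiveOver k G) {iT : T ⟶ G} (hT : AGF.IsMaxTorus iT)
    (x : VecGrp.pt k k ⟶ G) :
    (∀ τ : VecGrp.pt k k ⟶ T, x * (τ ≫ iT) = (τ ≫ iT) * x) ↔ ∃ z : VecGrp.pt k k ⟶ T, z ≫ iT = x := by
  haveI := hT.1
  obtain ⟨Cz, _, cz, hcz, -, -⟩ :=
    MTRigid29.exists_centralizer (MTRigid29.isMT_of_ft (isMultTypeFT_of_isTorus hT.2.2.1)) ‹_› inferInstance iT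
  obtain ⟨f, hf⟩ := exists_lift_cartan_reductive hG hT hcz
  obtain ⟨d, ⟨C⟩⟩ := exists_chars hT.2.2.1
  refine ⟨fun hx => ?_, ?_⟩
  · obtain ⟨g, rfl⟩ := exists_gpt x
    obtain ⟨z, rfl⟩ := exists_lift_centralizer_pt hT.2.2.1 hcz g hx
    exact ⟨gpt z ≫ f, by rw [Category.assoc, hf]; exact Category.assoc _ _ _⟩
  · rintro ⟨z, rfl⟩ τ
    rw [← MonObj.mul_comp, ← MonObj.mul_comp, (commute_of_chars C z τ).eq]

section Minors

variable (r : G ⟶ GLs k n)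

/-- The product of the minors. -/
def minorsFn (w : Fin n → ℤ) : Γ(G.left, ⊤) :=
  ∏ i : Fin n, ((DiagGL.mat r).submatrix (Subtype.val : upIdx w i → Fin n) Subtype.val).det

theorem val_minorsFn (w : Fin n → ℤ) (x : VecGrp.pt k k ⟶ G) :
    val x (minorsFn r w) = ∏ i : Fin n, ((mtxFn r x : Matrix (Fin n) (Fin n) k).submatrix
      (Subtype.val : upIdx w i → Fin n) Subtype.val).det := by
  rw [minorsFn, map_prod]
  refine Finset.prod_congr rfl fun i _ => ?_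
  rw [AlgHom.map_det, coe_mtxFn, mtxMat, DiagGL.mat_comp]
  rfl

theorem val_one_minorsFn [IsMonHom r] (w : Fin n → ℤ) :
    val (1 : VecGrp.pt k k ⟶ G) (minorsFn r w) ≠ 0 := by
  rw [val_minorsFn]
  refine Finset.prod_ne_zero_iff.2 fun i _ => ?_
  rw [← mtx_apply, map_one, Units.val_one, Matrix.submatrix_one _ Subtype.val_injective, Matrix.det_one]
  exact one_ne_zero

end Minors

variable {iT : T ⟶ G} [IsMonHom iT] (C : Chars (Fin d → ℤ) T) {r : G ⟶ GLs k n} [IsMonHom r]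
  [IsClosedImmersion r.left] {a : Fin n → Fin d → ℤ} {b : Fin d → ℤ}
  (hdiag : ∀ τ : VecGrp.pt k k ⟶ T, (mtxFn r (τ ≫ iT) : Matrix (Fin n) (Fin n) k) =
    Matrix.diagonal fun j => ptChr C τ (Multiplicative.ofAdd (a j)))
  (hsep : ∀ i j, wt a b i = wt a b j → a i = a j)

omit [Smooth G.hom] [IsClosedImmersion r.left] [IsAffine G.left] [IsAlgClosed k] [IsMonHom iT] [IsMonHom r] in
include hdiag in
theorem torus_mem_upPts (b' : Fin d → ℤ) (τ : VecGrp.pt k k ⟶ T) (x : VecGrp.pt k k ⟶ G) (hx : τ ≫ iT = x) :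
    IsUp (wt a b') (mtxFn r x : Matrix (Fin n) (Fin n) k) := hx ▸ torus_mem_blockUp C hdiag b' τ

omit [Smooth G.hom] [IsClosedImmersion r.left] [IsAffine G.left] [IsMonHom r] [IsMonHom iT] in
include hdiag in
theorem exists_lam (b' : Fin d → ℤ) :
    ∃ lam : kˣ → (VecGrp.pt k k ⟶ T), IsLam r (wt a b') fun s => lam s ≫ iT := by
  choose τ hτ using fun s => exists_scalePt C hdiag b' s
  exact ⟨τ, hτ⟩

variable [ConnectedSpace G.left]

include hdiag in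
/-- Two Borel subgroups containing the same contracted subgroup are equal on points. -/
theorem mem_borel_of_mem {B B' : Over (Spec (CommRingCat.of k))} [GrpObj B] [GrpObj B'] {iB : B ⟶ G} {iB' : B' ⟶ G}
    (hB : Red.IsBorelOver k iB) (hB' : Red.IsBorelOver k iB')
    (hT : ∀ τ : VecGrp.pt k k ⟶ T, ∃ y, y ≫ iB' = τ ≫ iT)
    (hlim : ∀ x ∈ upPts r (wt a (-b)), ∀ z, (mtxFn r z : Matrix (Fin n) (Fin n) k) =
      curveAt (wt a (-b)) (mtxFn r x : Matrix (Fin n) (Fin n) k) 0 → ∃ τ : VecGrp.pt k k ⟶ T, τ ≫ iT = z)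
    (h : ∀ x ∈ upPts r (wt a b), (∃ y, y ≫ iB = x) ∧ ∃ y, y ≫ iB' = x)
    (x : VecGrp.pt k k ⟶ B') : ∃ y : VecGrp.pt k k ⟶ B, y ≫ iB = x ≫ iB' := by
  obtain ⟨hm, hc, hs, -⟩ := id hB
  haveI := hm
  haveI := hc
  haveI := hs
  obtain ⟨hm', -⟩ := id hB'
  haveI := hm'
  obtain ⟨g₀, φ, hφ⟩ := BorelFix21.exists_conjBy iB iB' hB hB'
  set g := gpt g₀ with hg
  have hBB' : ∀ y : VecGrp.pt k k ⟶ B, (y ≫ φ.hom) ≫ iB' = g * (y ≫ iB) * g⁻¹ := fun y => by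
    rw [Category.assoc, hφ, comp_conjBy]; rfl
  have hB'B : ∀ y : VecGrp.pt k k ⟶ B', ∃ y' : VecGrp.pt k k ⟶ B, y ≫ iB' = g * (y' ≫ iB) * g⁻¹ := fun y =>
    ⟨y ≫ φ.inv, by rw [← hBB', Category.assoc y φ.inv, Iso.inv_hom_id, Category.comp_id]⟩
  haveI : IsIntegral G.left := UnitsRos.isIntegral_of_group G
  haveI : Nonempty G.left := ⟨η[G].left (IsLocalRing.closedPoint k)⟩
  have hh : minorsFn r (wt a b) ≠ 0 := fun e => val_one_minorsFn r (wt a b) (by rw [e, map_zero])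
  have hh' : (rTr g).left.appTop (minorsFn r (wt a b)) ≠ 0 := fun e =>
    val_one_minorsFn r (wt a b) (by
      rw [show (1 : VecGrp.pt k k ⟶ G) = g⁻¹ * g by rw [inv_mul_cancel], ← val_rTr, e, map_zero])
  obtain ⟨z, hz⟩ := exists_val_ne_zero (mul_ne_zero hh hh')
  rw [map_mul, val_rTr, val_minorsFn, val_minorsFn] at hz
  obtain ⟨p₁, q₁, e₁, hp₁, hq₁⟩ := exists_factor C r a b hdiag z fun i =>
    (Finset.prod_ne_zero_iff.1 (left_ne_zero_of_mul hz)) i (Finset.mem_univ _)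
  obtain ⟨p₂, q₂, e₂, hp₂, hq₂⟩ := exists_factor C r a b hdiag (z * g) fun i =>
    (Finset.prod_ne_zero_iff.1 (right_ne_zero_of_mul hz)) i (Finset.mem_univ _)
  obtain ⟨y₁, hy₁⟩ := (h q₁ hq₁).2
  obtain ⟨y₂, hy₂⟩ := (h q₂ hq₂).1
  obtain ⟨c, hc'⟩ := hB'B y₁
  rw [hy₁] at hc'
  set p := p₁⁻¹ * p₂ with hp
  have hpU : p ∈ upPts r (wt a (-b)) := mul_mem (inv_mem hp₁) hp₂
  have hgp : g = p * ((y₂ * c⁻¹) ≫ iB) := by
    rw [MonObj.mul_comp, GrpObj.inv_comp, hy₂, hp]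
    have e3 : p₂ * q₂ = p₁ * (g * (c ≫ iB) * g⁻¹) * g := by rw [← e₂, e₁, hc']
    rw [show p₁⁻¹ * p₂ * (q₂ * (c ≫ iB)⁻¹) = p₁⁻¹ * (p₂ * q₂) * (c ≫ iB)⁻¹ by group, e3]
    group
  -- the conjugating point lies in `B`
  let Cl : Set (VecGrp.pt k k ⟶ G) := (fun y => p⁻¹ * y) ⁻¹' Set.range fun y : VecGrp.pt k k ⟶ B => y ≫ iB
  have hcl : IsClosed Cl := (isClosed_pts iB).preimage (BorelFix21.continuous_mul_left _)
  obtain ⟨lam, hlam⟩ := exists_lam C hdiag (r := r) (iT := iT) (a := a) (-b)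
  have hconj : ∀ s, (lam s ≫ iT) * p * (lam s ≫ iT)⁻¹ ∈ Cl := fun s => by
    obtain ⟨t', ht'⟩ := hT (lam s)
    obtain ⟨c', hc''⟩ := hB'B t'
    obtain ⟨t'', ht''⟩ := (h (lam s ≫ iT) (torus_mem_upPts C hdiag b (lam s) _ rfl)).1
    refine ⟨(y₂ * c⁻¹) * c' * (y₂ * c⁻¹)⁻¹ * t''⁻¹, ?_⟩
    show ((y₂ * c⁻¹) * c' * (y₂ * c⁻¹)⁻¹ * t''⁻¹) ≫ iB = p⁻¹ * ((lam s ≫ iT) * p * (lam s ≫ iT)⁻¹)
    rw [MonObj.mul_comp, MonObj.mul_comp, MonObj.mul_comp, GrpObj.inv_comp, GrpObj.inv_comp, ht'']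
    rw [ht', hgp] at hc''
    rw [MonObj.mul_comp, GrpObj.inv_comp] at hc''
    have h3 : p⁻¹ * (lam s ≫ iT) * p =
        (y₂ ≫ iB) * (c ≫ iB)⁻¹ * (c' ≫ iB) * ((y₂ ≫ iB) * (c ≫ iB)⁻¹)⁻¹ := by
      rw [hc'']; group
    rw [show p⁻¹ * ((lam s ≫ iT) * p * (lam s ≫ iT)⁻¹) = p⁻¹ * (lam s ≫ iT) * p * (lam s ≫ iT)⁻¹ by group, h3,
      MonObj.mul_comp, GrpObj.inv_comp]
  obtain ⟨z₀, hz₀, -, hz₀e⟩ := exists_curve_pt hlam hpU hcl hconj 0
  obtain ⟨τ, hτ⟩ := hlim p hpU z₀ hz₀e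
  obtain ⟨t, ht⟩ := (h z₀ (torus_mem_upPts C hdiag b τ _ hτ)).1
  obtain ⟨y₀, hy₀⟩ := hz₀
  obtain ⟨c₀, hc₀⟩ := hB'B x
  have hpB : (t * y₀⁻¹) ≫ iB = p := by
    rw [MonObj.mul_comp, GrpObj.inv_comp, show y₀ ≫ iB = p⁻¹ * z₀ from hy₀, ht]
    group
  refine ⟨(t * y₀⁻¹ * (y₂ * c⁻¹)) * c₀ * (t * y₀⁻¹ * (y₂ * c⁻¹))⁻¹, ?_⟩
  rw [hc₀, MonObj.mul_comp, MonObj.mul_comp, GrpObj.inv_comp, MonObj.mul_comp (t * y₀⁻¹), hpB, ← hgp]

omit [IsAffine G.left] [Smooth G.hom] [ConnectedSpace G.left] in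
/-- A group of unipotent points has no subtorus. -/
theorem hasNoSubtorus_of_unip {U : Over (Spec (CommRingCat.of k))} [GrpObj U] [IsAffine U.left]
    [LocallyOfFiniteType U.hom] (s : U ⟶ GLs k n) [IsMonHom s] [IsClosedImmersion s.left]
    (h : ∀ x : VecGrp.pt k k ⟶ U, IsUnip (mtx s x)) : Red.HasNoSubtorus k U := by
  intro T' _ j _ _ hT
  obtain ⟨hTa, hTs, -, -⟩ := props_of_isTorus hT
  haveI := hTa
  haveI := hTs
  obtain ⟨d, ⟨C⟩⟩ := exists_chars hT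
  obtain ⟨P, hP⟩ := range_mtx_diag C (j ≫ s)
  haveI : IsClosedImmersion j.left := isClosedImmersion_of_torus hT j
  haveI : IsClosedImmersion (j ≫ s).left := by rw [Over.comp_left]; infer_instance
  exact isTrivialGrp_of_pts fun x => mtxFn_injective (j ≫ s) (by
    rw [← mtx_apply, ← mtx_apply, eq_one_of_isUnip_of_isDiag (hP _ ⟨x, rfl⟩) (mtx_comp j s x ▸ h (x ≫ j)), map_one])

end Groth.Agent.BorelLam21
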