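import Groth.Agent.Lib.BorelLam21.RankOne
import Groth.Agent.Lib.TorPts21.WeylNorm

/-!
# The points contracted by a regular one parameter subgroup form a Borel subgroup
-/

set_option autoImplicit false
set_option linter.style.haveILetI false
set_option backward.isDefEq.respectTransparency.types false
universe u

open CategoryTheory Limits MonoidalCategory CartesianMonoidalCategory MonObj AlgebraicGeometry Polynomial

noncomputable section

namespace Groth.Agent.BorelLam21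

open MatGrp21 InvRing21 DiagGL TorPts21 BigCell21

attribute [local instance] InvRing21.gamAlg BorelFix21.ptsTop

variable {k : Type u} [Field k] [IsAlgClosed k] {n d : ℕ} {G T : Over (Spec (CommRingCat.of k))} [GrpObj G]
  [GrpObj T]

/-- The subgroup of points of a subgroup. -/
def ptsSub {B : Over (Spec (CommRingCat.of k))} [GrpObj B] (iB : B ⟶ G) [IsMonHom iB] :
    Subgroup (VecGrp.pt k k ⟶ G) :=
  (MonoidHom.mk' (fun y : VecGrp.pt k k ⟶ B => y ≫ iB) fun x y => MonObj.mul_comp x y iB).range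

variable [IsAffine G.left] [Smooth G.hom] [ConnectedSpace G.left] {iT : T ⟶ G} (C : Chars (Fin d → ℤ) T)
  {r : G ⟶ GLs k n} [IsMonHom r] [IsClosedImmersion r.left] {a : Fin n → Fin d → ℤ} {b : Fin d → ℤ}
  (hG : Red.IsReductiveOver k G) (hT : AGF.IsMaxTorus iT)
  (hdiag : ∀ τ : VecGrp.pt k k ⟶ T, (mtxFn r (τ ≫ iT) : Matrix (Fin n) (Fin n) k) =
    Matrix.diagonal fun j => ptChr C τ (Multiplicative.ofAdd (a j)))
  (hsep : ∀ i j, wt a b i = wt a b j → a i = a j)

include hG hT hdiag hsep in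
set_option maxHeartbeats 1600000 in
/-- A Borel subgroup containing the contracted points meets the opposite ones in the torus. -/
theorem down_inter {B : Over (Spec (CommRingCat.of k))} [GrpObj B] {iB : B ⟶ G} (hB : Red.IsBorelOver k iB)
    (hBU : ∀ x ∈ upPts r (wt a b), ∃ y, y ≫ iB = x) (x : VecGrp.pt k k ⟶ G) (hx : x ∈ upPts r (wt a (-b)))
    (hxB : ∃ y, y ≫ iB = x) : ∃ τ : VecGrp.pt k k ⟶ T, τ ≫ iT = x := by
  classical
  obtain ⟨hBm, hBc, hBs, -⟩ := id hB
  haveI := hBm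
  haveI := hBc
  haveI := hBs
  haveI := hT.1
  haveI := hT.2.1
  obtain ⟨hTa, hTs, -, -⟩ := props_of_isTorus hT.2.2.1
  haveI := hTa
  haveI := hTs
  haveI := isClosedImmersion_of_torus hT.2.2.1 iT
  have hsep' : ∀ i j, wt a (-b) i = wt a (-b) j → a i = a j := fun i j h =>
    hsep i j (by rw [wt_neg] at h; exact neg_injective h)
  have hTB : ∀ τ : VecGrp.pt k k ⟶ T, τ ≫ iT ∈ ptsSub iB := fun τ =>
    hBU _ (torus_mem_upPts C hdiag b τ _ rfl)
  have hBcl : IsClosed (ptsSub iB : Set (VecGrp.pt k k ⟶ G)) := isClosed_pts iB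
  obtain ⟨lam, hlam⟩ := exists_lam C hdiag (r := r) (iT := iT) (a := a) (-b)
  obtain ⟨z, hzB, -, hze⟩ := exists_curve_pt hlam hx hBcl
    (fun s => mul_mem (mul_mem (hTB _) (show x ∈ ptsSub iB from hxB)) (inv_mem (hTB _))) 0
  obtain ⟨τ, hτ⟩ := lim_mem_torus C hG hT hdiag hsep' x hx z hze
  have hτinv : z⁻¹ = τ⁻¹ ≫ iT := by rw [GrpObj.inv_comp, hτ]
  have hx'B : z⁻¹ * x ∈ ptsSub iB := mul_mem (inv_mem (show z ∈ ptsSub iB from hzB)) hxB
  have hx' : z⁻¹ * x ∈ upPts₁ r (wt a (-b)) := by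
    refine ⟨(mul_mem (show z⁻¹ ∈ upPts r (wt a (-b)) from torus_mem_upPts C hdiag (-b) τ⁻¹ _ hτinv.symm) hx :
      z⁻¹ * x ∈ upPts r (wt a (-b))), fun i j h => ?_⟩
    have h1 : ((mtx r (z⁻¹ * x) : GL (Fin n) k) : Matrix (Fin n) (Fin n) k) i j =
        ((mtx r (z⁻¹ * z) : GL (Fin n) k) : Matrix (Fin n) (Fin n) k) i j := by
      rw [map_mul, map_mul, Units.val_mul, Units.val_mul, hτinv, mtx_apply r (τ⁻¹ ≫ iT), hdiag, Matrix.diagonal_mul,
        Matrix.diagonal_mul, mtx_apply, mtx_apply, hze, curveAt_zero_apply ((mem_upPts r).1 hx), if_pos h]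
    rw [inv_mul_cancel, map_one, Units.val_one] at h1
    exact h1
  by_cases hne : z⁻¹ * x = 1
  · exact ⟨τ, hτ.trans (inv_mul_eq_one.1 hne)⟩
  exfalso
  obtain ⟨x₀, hx₀B, hx₀, ⟨⟨i₀, j₀⟩, he₀⟩, hray⟩ :=
    exists_ray C hdiag (ptsSub iB) hBcl hTB (z⁻¹ * x) hx'B hx' hne
  set E := supp (wt a (-b)) (mtxFn r x₀ : Matrix (Fin n) (Fin n) k) with hE
  obtain ⟨hw₀, hm₀⟩ := mem_supp.1 he₀
  have hn₀ : wt a b i₀ < wt a b j₀ := by
    have h := (lt_or_gt_of_ne hw₀).resolve_left fun h => hm₀ (hx₀.1 _ _ h)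
    simpa [wt_neg] using h
  -- the points of the torus killing the support
  let H1 : Subgroup (VecGrp.pt k k ⟶ T) :=
    { carrier := {τ | ∀ e ∈ E, ptChr C τ (Multiplicative.ofAdd (a e.1)) = ptChr C τ (Multiplicative.ofAdd (a e.2))}
      one_mem' := fun e _ => by
        have h : ∀ i, ptChr C (1 : VecGrp.pt k k ⟶ T) (Multiplicative.ofAdd (a i)) = 1 := fun i => by
          have := congrFun (congrFun (hdiag 1) i) i
          rw [MonObj.one_comp, ← mtx_apply, map_one, Units.val_one, Matrix.one_apply_eq,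
            Matrix.diagonal_apply_eq] at this
          exact this.symm
        rw [h, h]
      mul_mem' := fun {x y} hx hy e he => by rw [ptChr_mul, ptChr_mul, hx e he, hy e he]
      inv_mem' := fun {x} hx e he => by
        have h : ∀ i, ptChr C x⁻¹ (Multiplicative.ofAdd (a i)) * ptChr C x (Multiplicative.ofAdd (a i)) = 1 := fun i => by
          rw [← ptChr_mul, inv_mul_cancel]
          have := congrFun (congrFun (hdiag 1) i) i
          rw [MonObj.one_comp, ← mtx_apply, map_one, Units.val_one, Matrix.one_apply_eq,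
            Matrix.diagonal_apply_eq] at this
          exact this.symm
        have h1 := h e.1
        rw [hx e he] at h1
        exact mul_right_cancel₀ (right_ne_zero_of_mul_eq_one h1) (h1.trans (h e.2).symm) }
  have hH1 : IsClosed (H1 : Set (VecGrp.pt k k ⟶ T)) := by
    have : (H1 : Set (VecGrp.pt k k ⟶ T)) = mtxFn (iT ≫ r) ⁻¹' ⋂ e ∈ E,
        {g : GL (Fin n) k | (g : Matrix (Fin n) (Fin n) k) e.1 e.1 = (g : Matrix (Fin n) (Fin n) k) e.2 e.2} := by
      ext τ
      simp only [SetLike.mem_coe, Set.mem_preimage, Set.mem_iInter, Set.mem_setOf_eq, mtxFn_comp, hdiag,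
        Matrix.diagonal_apply_eq]
      rfl
    rw [this]
    exact (isClosed_iInter fun e => isClosed_iInter fun _ =>
      MatGrp21.isClosed_eq (isReg_entry _ _) (isReg_entry _ _)).preimage (continuous_mtxFn _)
  obtain ⟨Z, _, jZ, hjZ, hjZc, hZs, -, hZpts⟩ := exists_closed_subgroup_of_pts H1 hH1
  haveI := hjZ
  haveI := hjZc
  haveI := hZs
  haveI : IsAffine Z.left := isAffine_of_isAffineHom jZ.left
  obtain ⟨σ, _, jσ, hjσ, hjσo, hσc⟩ := BorelFix21.exists_identity_component Z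
  haveI := hjσ
  haveI := hjσo
  haveI := hσc
  haveI : IsClosedImmersion jσ.left := IsClosedImmersion.of_isPreimmersion _ (InvRing21.isClosed_range jσ)
  haveI : IsClosedImmersion (jσ ≫ jZ).left := by rw [Over.comp_left]; infer_instance
  haveI : Smooth σ.hom := by rw [← Over.w jσ]; infer_instance
  have hσ : Red.IsTorus σ := isTorus_of_closed hT.2.2.1 (jσ ≫ jZ)
  let iS : σ ⟶ G := (jσ ≫ jZ) ≫ iT
  haveI : Mono (jσ ≫ jZ) := Over.mono_of_mono_left _
  haveI : Mono iS := mono_comp _ _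
  obtain ⟨Cz, _, c, hcz, -, -⟩ :=
    MTRigid29.exists_centralizer (MTRigid29.isMT_of_ft (isMultTypeFT_of_isTorus hσ)) ‹_› inferInstance iS
  obtain ⟨hcm, hci, hcs, hca⟩ := centralizer_props hσ hcz
  haveI := hcm
  haveI := hci
  haveI := hcs
  haveI := hca
  haveI := connectedSpace_centralizer_closed hσ hcz
  haveI : Mono c := Over.mono_of_mono_left c
  haveI : IsClosedImmersion (c ≫ r).left := by rw [Over.comp_left]; infer_instance
  have hcomm : ∀ {X : Over (Spec (CommRingCat.of k))} (u v : X ⟶ T), Commute u v := fun u v => commute_of_chars C u v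
  obtain ⟨tC, htC⟩ := (hcz.2.2 T iT).2 fun X u h => by
    rw [← Category.assoc, ← MonObj.mul_comp, ← MonObj.mul_comp, (hcomm u _).eq]
  have hTC : AGF.IsMaxTorus tC := isMaxTorus_of_comp hT c tC htC
  haveI := hTC.1
  obtain ⟨tB, htB⟩ := exists_lift_of_pts iB iT hTB
  obtain ⟨D, _, dC, dB, hdC, hdCc, hD⟩ := exists_subgroup_inter c iB
  haveI := hdC
  have hBD : Red.IsBorelOver k dC :=
    isBorelOver_inter hσ hB ((jσ ≫ jZ) ≫ tB) (by rw [Category.assoc, htB]) hcz dC dB hD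
  obtain ⟨tD, htD, -⟩ := hD.exists_lift tC tB (by rw [htC, htB])
  have hmtx : ∀ y : VecGrp.pt k k ⟶ Cz, mtxFn (c ≫ r) y = mtxFn r (y ≫ c) := fun y => mtxFn_comp c r y
  have hdiag' : ∀ τ : VecGrp.pt k k ⟶ T, (mtxFn (c ≫ r) (τ ≫ tC) : Matrix (Fin n) (Fin n) k) =
      Matrix.diagonal fun j => ptChr C τ (Multiplicative.ofAdd (a j)) := fun τ => by
    rw [hmtx, Category.assoc, htC, hdiag]
  -- on the torus `σ` the weights of a nonzero entry agree
  have hσeq : ∀ (h : VecGrp.pt k k ⟶ σ) (y : VecGrp.pt k k ⟶ Cz) i j,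
      (mtxFn r (y ≫ c) : Matrix (Fin n) (Fin n) k) i j ≠ 0 →
      ptChr C (h ≫ jσ ≫ jZ) (Multiplicative.ofAdd (a i)) = ptChr C (h ≫ jσ ≫ jZ) (Multiplicative.ofAdd (a j)) := by
    intro h y i j hne
    have h1 := congrArg (fun g => ((mtx r g : GL (Fin n) k) : Matrix (Fin n) (Fin n) k) i j) (centralizer_comm hcz y h)
    simp only [map_mul, Units.val_mul, mtx_apply, iS, ← Category.assoc] at h1
    rw [hdiag, Matrix.mul_diagonal, Matrix.diagonal_mul, mul_comm (ptChr C _ _)] at h1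
    simp only [Category.assoc] at h1 ⊢
    exact (mul_left_cancel₀ hne h1).symm
  obtain ⟨N, hN0, hN⟩ := exists_pow_mem jσ
  have hline : ∀ (y : VecGrp.pt k k ⟶ Cz) i j, (mtxFn (c ≫ r) y : Matrix (Fin n) (Fin n) k) i j ≠ 0 →
      ∀ b' : Fin d → ℤ, (wt a b i₀ - wt a b j₀) * (wt a b' i - wt a b' j) =
        (wt a b' i₀ - wt a b' j₀) * (wt a b i - wt a b j) := by
    intro y i j hne b'
    rw [hmtx] at hne
    set c' : Fin d → ℤ := TorPts21.pairing (a i₀ - a j₀) b • b' - TorPts21.pairing (a i₀ - a j₀) b' • b with hc'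
    have hker : ∀ e ∈ E, wt a c' e.1 = wt a c' e.2 := fun e he => by
      have h1 := hray e he (i₀, j₀) he₀ b'
      rw [show TorPts21.pairing (a i₀ - a j₀) (-b) = -TorPts21.pairing (a i₀ - a j₀) b by
          simp [TorPts21.pairing],
        show TorPts21.pairing (a e.1 - a e.2) (-b) = -TorPts21.pairing (a e.1 - a e.2) b by
          simp [TorPts21.pairing]] at h1
      refine sub_eq_zero.1 ?_
      rw [wt_sub, pairing_comb]
      linear_combination -h1
    have hp : ∀ s : kˣ, (s ^ wt a c' i) ^ N = (s ^ wt a c' j) ^ N := fun s => by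
      obtain ⟨ν, hν⟩ := exists_scalePt C hdiag c' s
      have hν1 : ν ∈ H1 := fun e he => by
        rw [ptChr_cochar C hdiag hν, ptChr_cochar C hdiag hν, hker e he]
      obtain ⟨ν', hν'⟩ := (hZpts ν).2 hν1
      obtain ⟨h, hh⟩ := hN ν'
      have hpow : h ≫ jσ ≫ jZ = ν ^ N := by
        rw [← Category.assoc, hh, ← hν']
        exact map_pow (MonoidHom.mk' (fun y : VecGrp.pt k k ⟶ Z => y ≫ jZ) fun a b => MonObj.mul_comp a b jZ) _ _
      have := hσeq h y i j hne
      rw [hpow, ptChr_pow C _ hN0, ptChr_pow C _ hN0, ptChr_cochar C hdiag hν, ptChr_cochar C hdiag hν] at this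
      exact Units.ext (by rw [Units.val_pow_eq_pow_val, Units.val_pow_eq_pow_val]; exact this)
    have he : wt a c' i * (N : ℤ) = wt a c' j * (N : ℤ) := zpow_inj (k := k) fun s => by
      rw [zpow_mul, zpow_mul, zpow_natCast, zpow_natCast]; exact hp s
    have he' : wt a c' i - wt a c' j = 0 := sub_eq_zero.2 (mul_right_cancel₀ (by exact_mod_cast hN0.ne') he)
    rw [wt_sub, hc', pairing_comb, ← wt_sub, ← wt_sub, ← wt_sub, ← wt_sub] at he'
    exact sub_eq_zero.1 he'
  -- the point on the ray commutes with `σ`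
  have hx₀σ : ∀ h : VecGrp.pt k k ⟶ σ, x₀ * (h ≫ iS) = (h ≫ iS) * x₀ := by
    intro h
    refine mtxFn_injective r (Units.ext ?_)
    show ((mtx r (x₀ * (h ≫ iS)) : GL (Fin n) k) : Matrix (Fin n) (Fin n) k) =
      ((mtx r ((h ≫ iS) * x₀) : GL (Fin n) k) : Matrix (Fin n) (Fin n) k)
    rw [map_mul, map_mul, Units.val_mul, Units.val_mul, mtx_apply, mtx_apply, show h ≫ iS = (h ≫ jσ ≫ jZ) ≫ iT by
      simp [iS], hdiag]
    ext i j
    rw [Matrix.mul_diagonal, Matrix.diagonal_mul]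
    by_cases hw : wt a (-b) i = wt a (-b) j
    · rw [hsep' i j hw, mul_comm]
    · by_cases h0 : (mtxFn r x₀ : Matrix (Fin n) (Fin n) k) i j = 0
      · rw [h0, MulZeroClass.zero_mul, MulZeroClass.mul_zero]
      · have := (hZpts (h ≫ jσ ≫ jZ)).1 ⟨h ≫ jσ, Category.assoc _ _ _⟩ (i, j) (mem_supp.2 ⟨hw, h0⟩)
        rw [show ptChr C (h ≫ jσ ≫ jZ) (Multiplicative.ofAdd (a i)) =
          ptChr C (h ≫ jσ ≫ jZ) (Multiplicative.ofAdd (a j)) from this, mul_comm]
  obtain ⟨g, hg⟩ := exists_gpt x₀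
  obtain ⟨w, hw⟩ := exists_lift_centralizer_pt hσ hcz g fun h => by rw [hg]; exact hx₀σ h
  have hwc : gpt w ≫ c = x₀ := by rw [← hg, ← hw]; exact Category.assoc _ _ _
  obtain ⟨y₀, hy₀⟩ := hx₀B
  obtain ⟨w', hw', -⟩ := hD.exists_lift (gpt w) y₀ (by rw [hwc]; exact hy₀.symm)
  refine false_of_line C (r := c ≫ r) (iT := tC) (a := a) (b := b)
    (isReductiveOver_centralizer hG hσ hcz) hTC hdiag' hsep i₀ j₀ hn₀ hline (gpt w) ?_ ?_ hBD
    (fun u hu => ?_) ⟨w', hw'⟩ tD htD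
  · show IsUp₁ _ _
    rw [hmtx, hwc]
    exact hx₀
  · rw [hmtx, hwc]
    exact hm₀
  · obtain ⟨v, hv⟩ := hBU (u ≫ c) (show IsUp _ (mtxFn r (u ≫ c) : Matrix (Fin n) (Fin n) k) by rw [← hmtx]; exact hu)
    obtain ⟨u', hu', -⟩ := hD.exists_lift u v hv.symm
    exact ⟨u', hu'⟩

include hG hT hdiag hsep in
set_option maxHeartbeats 800000 in
/-- **The contracted points form a Borel subgroup.** -/
theorem exists_upBorel : ∃ (B : Over (Spec (CommRingCat.of k))) (_ : GrpObj B) (iB : B ⟶ G),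
    Red.IsBorelOver k iB ∧ ∀ x : VecGrp.pt k k ⟶ G, (∃ y, y ≫ iB = x) ↔ x ∈ upPts r (wt a b) := by
  obtain ⟨B, _, iB, hB, hBU⟩ := exists_borel_ge C hG hT hdiag hsep
  haveI := hT.1
  obtain ⟨hBm, hBc, hBs, hBn, -⟩ := id hB
  haveI := hBm
  haveI := hBc
  haveI := hBs
  haveI := hBn
  haveI : IsAffine B.left := isAffine_of_isAffineHom iB.left
  refine ⟨B, inferInstance, iB, hB, fun x => ⟨?_, hBU x⟩⟩
  rintro ⟨y, rfl⟩
  haveI : IsIntegral B.left := UnitsRos.isIntegral_of_group B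
  haveI : Nonempty B.left := ⟨η[B].left (IsLocalRing.closedPoint k)⟩
  haveI : Nonempty (⊤ : B.left.Opens) := ⟨⟨η[B].left (IsLocalRing.closedPoint k), trivial⟩⟩
  intro i j hij
  set f := iB.left.appTop (minorsFn r (wt a b)) with hf
  set g := iB.left.appTop (DiagGL.mat r i j) with hg
  have hent : ∀ v : VecGrp.pt k k ⟶ B, val v g = (mtxFn r (v ≫ iB) : Matrix (Fin n) (Fin n) k) i j := fun v => by
    rw [hg, appTop_val, coe_mtxFn, mtxMat, DiagGL.mat_comp]; rfl
  have hfne : f ≠ 0 := fun e => val_one_minorsFn r (wt a b) (by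
    have := congrArg (val (1 : VecGrp.pt k k ⟶ B)) e
    rwa [hf, appTop_val, MonObj.one_comp, map_zero] at this)
  have hfg : f * g = 0 := by
    by_contra hne
    obtain ⟨v, hv⟩ := exists_val_ne_zero hne
    rw [map_mul, hent, hf, appTop_val, val_minorsFn] at hv
    obtain ⟨p, q, e, hp, hq⟩ := BigCell21.exists_factor C r a b hdiag (v ≫ iB) fun l =>
      (Finset.prod_ne_zero_iff.1 (left_ne_zero_of_mul hv)) l (Finset.mem_univ _)
    obtain ⟨q', hq'⟩ := hBU q hq
    obtain ⟨τ, hτ⟩ := down_inter C hG hT hdiag hsep hB hBU p hp ⟨v * q'⁻¹, by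
      rw [MonObj.mul_comp, GrpObj.inv_comp, hq', e, mul_inv_cancel_right]⟩
    have hvU : v ≫ iB ∈ upPts r (wt a b) := by
      rw [e]
      exact mul_mem (show p ∈ upPts r (wt a b) from torus_mem_upPts C hdiag b τ _ hτ) hq
    exact right_ne_zero_of_mul hv (hvU i j hij)
  show (mtxFn r (y ≫ iB) : Matrix (Fin n) (Fin n) k) i j = 0
  rw [← hent, (mul_eq_zero.1 hfg).resolve_left hfne, map_zero]

end Groth.Agent.BorelLam21
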