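import Groth.Agent.Lib.BorelLam21.Limit
import Groth.Agent.Lib.TorPts21.Luna

/-!
# Groups all of whose weights lie on one line
-/

set_option autoImplicit false
set_option linter.style.haveILetI false
set_option backward.isDefEq.respectTransparency.types false
universe u

open CategoryTheory Limits MonoidalCategory CartesianMonoidalCategory MonObj AlgebraicGeometry Polynomial

noncomputable section

namespace Groth.Agent.BorelLam21

open MatGrp21 InvRing21 DiagGL TorPts21 BigCell21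

attribute [local instance] InvRing21.gamAlg BorelFix21.ptsTop

variable {k : Type u} [Field k] [IsAlgClosed k] {n d : ℕ} {G T : Over (Spec (CommRingCat.of k))} [GrpObj G]
  [GrpObj T] [IsAffine G.left] [Smooth G.hom] [ConnectedSpace G.left] {iT : T ⟶ G} (C : Chars (Fin d → ℤ) T)
  {r : G ⟶ GLs k n} [IsMonHom r] [IsClosedImmersion r.left] {a : Fin n → Fin d → ℤ} {b : Fin d → ℤ}
  (hG : Red.IsReductiveOver k G) (hT : AGF.IsMaxTorus iT)
  (hdiag : ∀ τ : VecGrp.pt k k ⟶ T, (mtxFn r (τ ≫ iT) : Matrix (Fin n) (Fin n) k) =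
    Matrix.diagonal fun j => ptChr C τ (Multiplicative.ofAdd (a j)))
  (hsep : ∀ i j, wt a b i = wt a b j → a i = a j)

omit [ConnectedSpace G.left] [IsClosedImmersion r.left] [IsAffine G.left] [Smooth G.hom] [IsAlgClosed k] in
theorem ptChr_cochar {τ : VecGrp.pt k k ⟶ T} {s : kˣ} {w : Fin n → ℤ}
    (hdiag : ∀ τ : VecGrp.pt k k ⟶ T, (mtxFn r (τ ≫ iT) : Matrix (Fin n) (Fin n) k) =
      Matrix.diagonal fun j => ptChr C τ (Multiplicative.ofAdd (a j)))
    (hτ : (mtxFn r (τ ≫ iT) : Matrix (Fin n) (Fin n) k) = dg w s) (i : Fin n) :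
    ptChr C τ (Multiplicative.ofAdd (a i)) = ((s ^ w i : kˣ) : k) := by
  have h := congrFun (congrFun ((hdiag τ).symm.trans hτ) i) i
  rwa [dg, Matrix.diagonal_apply_eq, Matrix.diagonal_apply_eq] at h

include hdiag hsep hG hT in
set_option maxHeartbeats 1600000 in
/-- In a group with all weights on the line of `z₀`, a contracted point of a Borel subgroup containing the opposite
contracted subgroup lies in every Borel subgroup containing the torus. -/
theorem mem_borels_of_line (i₀ j₀ : Fin n) (hn₀ : wt a b i₀ < wt a b j₀)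
    (hline : ∀ (y : VecGrp.pt k k ⟶ G) i j, (mtxFn r y : Matrix (Fin n) (Fin n) k) i j ≠ 0 → ∀ b' : Fin d → ℤ,
      (wt a b i₀ - wt a b j₀) * (wt a b' i - wt a b' j) = (wt a b' i₀ - wt a b' j₀) * (wt a b i - wt a b j))
    (x₀ : VecGrp.pt k k ⟶ G) (hx₀ : x₀ ∈ upPts r (wt a (-b)))
    (hne : (mtxFn r x₀ : Matrix (Fin n) (Fin n) k) i₀ j₀ ≠ 0)
    {B : Over (Spec (CommRingCat.of k))} [GrpObj B] {iB : B ⟶ G} (hB : Red.IsBorelOver k iB)
    (hBU : ∀ x ∈ upPts r (wt a b), ∃ y, y ≫ iB = x) (hx₀B : ∃ y, y ≫ iB = x₀) (t : T ⟶ B) (ht : t ≫ iB = iT)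
    {B' : Over (Spec (CommRingCat.of k))} [GrpObj B'] {iB' : B' ⟶ G} (hB' : Red.IsBorelOver k iB') (t' : T ⟶ B')
    (ht' : t' ≫ iB' = iT) : ∃ y, y ≫ iB' = x₀ := by
  haveI := hT.1
  haveI := hB.1
  haveI := hB'.1
  obtain ⟨g₀, f, f', hf, hf'⟩ := exists_conj_pair iB iB' hB hB' hT hT t ht t' ht'
  set g := gpt g₀ with hg
  have hBB' : ∀ y : VecGrp.pt k k ⟶ B, (y ≫ f.hom) ≫ iB' = g * (y ≫ iB) * g⁻¹ := fun y => by
    rw [Category.assoc, hf, comp_conjBy]; rfl
  have hTT : ∀ τ : VecGrp.pt k k ⟶ T, (τ ≫ f'.hom) ≫ iT = g * (τ ≫ iT) * g⁻¹ := fun τ => by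
    rw [Category.assoc, hf', comp_conjBy]; rfl
  obtain ⟨lam, hlam⟩ := exists_lam C hdiag (r := r) (iT := iT) (a := a) b
  set N := mtxFn r g with hN
  -- the transported one parameter group
  let D : kˣ → Matrix (Fin n) (Fin n) k := fun s => (mtxFn r ((lam s ≫ f'.hom) ≫ iT) : Matrix (Fin n) (Fin n) k)
  have hD : ∀ s, D s = (N : Matrix (Fin n) (Fin n) k) * dg (wt a b) s * ((N⁻¹ : GL (Fin n) k) : Matrix (Fin n) (Fin n) k) :=
    fun s => by
      show (mtxFn r ((lam s ≫ f'.hom) ≫ iT) : Matrix (Fin n) (Fin n) k) = _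
      rw [hTT, ← mtx_apply, map_mul, map_mul, map_inv, Units.val_mul, Units.val_mul, mtx_apply, mtx_apply, hlam s, hN]
  have hDdiag : ∀ s, D s = Matrix.diagonal fun i => ptChr C (lam s ≫ f'.hom) (Multiplicative.ofAdd (a i)) :=
    fun s => hdiag _
  have hw : ∀ i, ∃ l, ∀ s, ptChr C (lam s ≫ f'.hom) (Multiplicative.ofAdd (a i)) = ((s ^ wt a b l : kˣ) : k) := by
    intro i
    have hval : ∀ s, ptChr C (lam s ≫ f'.hom) (Multiplicative.ofAdd (a i)) =
        ∑ l, ((N : Matrix (Fin n) (Fin n) k) i l * ((N⁻¹ : GL (Fin n) k) : Matrix (Fin n) (Fin n) k) l i) *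
          ((s ^ wt a b l : kˣ) : k) := fun s => by
      have h1 : D s i i = ptChr C (lam s ≫ f'.hom) (Multiplicative.ofAdd (a i)) := by
        rw [hDdiag, Matrix.diagonal_apply_eq]
      rw [← h1, hD, Matrix.mul_apply]
      refine Finset.sum_congr rfl fun l _ => ?_
      rw [dg, Matrix.mul_diagonal]
      ring
    have hdg : ∀ s s' : kˣ, dg (k := k) (wt a b) (s * s') = dg (wt a b) s * dg (wt a b) s' := fun s s' => by
      rw [dg, dg, dg, Matrix.diagonal_mul_diagonal]
      congr 1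
      funext l
      rw [mul_zpow, Units.val_mul]
    have hDmul : ∀ s s', D (s * s') = D s * D s' := fun s s' => by
      rw [hD, hD, hD, hdg]
      simp only [_root_.mul_assoc, Units.inv_mul_cancel_left]
    have hdg1 : D 1 = 1 := by
      rw [hD, dg]
      simp
    refine exists_eq_zpow
      { toFun := fun s => ptChr C (lam s ≫ f'.hom) (Multiplicative.ofAdd (a i))
        map_one' := by
          have := congrFun (congrFun ((hDdiag 1).symm.trans hdg1) i) i
          simpa using this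
        map_mul' := fun s s' => by
          have := congrFun (congrFun ((hDdiag (s * s')).symm.trans ((hDmul s s').trans
            (by rw [hDdiag, hDdiag, Matrix.diagonal_mul_diagonal]))) i) i
          simpa using this }
      _ (wt a b) hval (by
        have := congrFun (congrFun ((hDdiag 1).symm.trans hdg1) i) i
        simp only [Matrix.diagonal_apply_eq, Matrix.one_apply_eq] at this
        show ptChr C (lam 1 ≫ f'.hom) (Multiplicative.ofAdd (a i)) ≠ 0
        rw [this]
        exact one_ne_zero)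
  choose π hπ using hw
  let w' : Fin n → ℤ := fun i => wt a b (π i)
  have hlam' : IsLam r w' fun s => (lam s ≫ f'.hom) ≫ iT := fun s => by
    rw [show (mtxFn r ((lam s ≫ f'.hom) ≫ iT) : Matrix (Fin n) (Fin n) k) = D s from rfl, hDdiag, dg]
    congr 1
    funext i
    exact hπ i s
  -- the slope
  set ρ := w' i₀ - w' j₀ with hρ
  have hrel : ∀ (y : VecGrp.pt k k ⟶ G) i j, (mtxFn r y : Matrix (Fin n) (Fin n) k) i j ≠ 0 →
      (wt a b i₀ - wt a b j₀) * (w' i - w' j) = ρ * (wt a b i - wt a b j) := by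
    intro y i j hy
    have hz : (wt a b i₀ - wt a b j₀) • (a i - a j) = (wt a b i - wt a b j) • (a i₀ - a j₀) := by
      funext l
      have := hline y i j hy (Pi.single l 1)
      have hp : ∀ c : Fin n, wt a (Pi.single l 1) c = a c l := fun c => by
        simp [wt, TorPts21.pairing, Pi.single_apply]
      rw [hp, hp, hp, hp] at this
      simp only [Pi.smul_apply, Pi.sub_apply, smul_eq_mul, this]
      ring
    refine zpow_inj (k := k) fun s => ?_
    let φ : Multiplicative (Fin d → ℤ) →* kˣ := (ptChr C (lam s ≫ f'.hom)).toHomUnits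
    have hφ : ∀ c, φ (Multiplicative.ofAdd (a c)) = s ^ w' c := fun c => Units.ext (hπ c s)
    have h2 := congrArg (fun v => φ (Multiplicative.ofAdd v)) hz
    simp only [ofAdd_zsmul, map_zpow, ofAdd_sub, _root_.map_div, hφ, div_eq_mul_inv, ← zpow_neg, ← zpow_add,
      ← zpow_mul, map_mul, map_inv] at h2
    rw [show (wt a b i₀ - wt a b j₀) * (w' i - w' j) = (w' i + -w' j) * (wt a b i₀ - wt a b j₀) by ring,
      show ρ * (wt a b i - wt a b j) = (w' i₀ + -w' j₀) * (wt a b i - wt a b j) by rw [hρ]; ring]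
    exact h2
  have hρ0 : ρ ≠ 0 := by
    intro h0
    have hcomm : ∀ (s : kˣ) (y : VecGrp.pt k k ⟶ G),
        ((lam s ≫ f'.hom) ≫ iT) * y = y * ((lam s ≫ f'.hom) ≫ iT) := fun s y => mtxFn_injective r (Units.ext (by
      rw [← mtx_apply, ← mtx_apply, map_mul, map_mul, Units.val_mul, Units.val_mul, mtx_apply, mtx_apply, hlam' s,
        dg]
      ext i j
      rw [Matrix.diagonal_mul, Matrix.mul_diagonal]
      by_cases hy : (mtxFn r y : Matrix (Fin n) (Fin n) k) i j = 0
      · rw [hy, mul_zero, zero_mul]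
      · have h1 := hrel y i j hy
        rw [h0, zero_mul, mul_eq_zero] at h1
        rw [sub_eq_zero.1 (h1.resolve_left (sub_ne_zero.2 hn₀.ne)), mul_comm]))
    refine absurd (eq_zero_of_zpow (k := k) fun s => ?_) (sub_ne_zero.2 hn₀.ne)
    have hc : (lam s ≫ iT) * x₀ = x₀ * (lam s ≫ iT) := by
      have h1 := hcomm s (g * x₀ * g⁻¹)
      rw [hTT] at h1
      calc (lam s ≫ iT) * x₀ = g⁻¹ * ((g * (lam s ≫ iT) * g⁻¹) * (g * x₀ * g⁻¹)) * g := by group
        _ = g⁻¹ * ((g * x₀ * g⁻¹) * (g * (lam s ≫ iT) * g⁻¹)) * g := by rw [h1]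
        _ = _ := by group
    have h2 := congrArg (fun y => (mtxFn r y : Matrix (Fin n) (Fin n) k) i₀ j₀) hc
    simp only [← mtx_apply, map_mul, Units.val_mul] at h2
    rw [mtx_apply, mtx_apply, hlam s, dg, Matrix.diagonal_mul, Matrix.mul_diagonal, mul_comm] at h2
    rw [zpow_sub, mul_inv_eq_one]
    exact Units.ext (mul_left_cancel₀ hne h2)
  -- contracted points for the new weights lie in the conjugate subgroup
  have hsub : ∀ y ∈ upPts r w', ∃ z, z ≫ iB' = y := fun y hy => by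
    have hmem : g⁻¹ * y * g ∈ upPts r (wt a b) := by
      refine isUp_of_poly (w := wt a b) (g := mtxFn r (g⁻¹ * y * g))
        (((N⁻¹ : GL (Fin n) k) : Matrix (Fin n) (Fin n) k).map Polynomial.C *
          curve w' (mtxFn r y : Matrix (Fin n) (Fin n) k) * (N : Matrix (Fin n) (Fin n) k).map Polynomial.C)
        fun s dd hdd => ?_
      have hddeq : dd = mtxFn r (lam s ≫ iT) := Units.ext (hdd.trans (hlam s).symm)
      have e : (lam s ≫ iT) * (g⁻¹ * y * g) * (lam s ≫ iT)⁻¹ =
          g⁻¹ * (((lam s ≫ f'.hom) ≫ iT) * y * ((lam s ≫ f'.hom) ≫ iT)⁻¹) * g := by rw [hTT]; group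
      rw [hddeq, ← mtx_apply, ← mtx_apply, ← map_inv, ← map_mul, ← map_mul, e, map_mul, map_mul, map_inv,
        Units.val_mul, Units.val_mul, mtx_apply, mtx_apply, conj_lam hlam' hy, ← Polynomial.coe_evalRingHom,
        Matrix.map_mul, Matrix.map_mul, ← hN]
      simp only [Matrix.map_map, Function.comp_def, Polynomial.coe_evalRingHom, eval_C]
      rfl
    obtain ⟨z, hz⟩ := hBU _ hmem
    exact ⟨z ≫ f.hom, by rw [hBB', hz]; group⟩
  have hscale : ∀ (y : VecGrp.pt k k ⟶ G) (e : ℤ) (c : Fin d → ℤ), (∀ i, wt a c i = e * wt a b i) →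
      0 < ρ * (wt a b i₀ - wt a b j₀) * e → y ∈ upPts r (wt a c) → y ∈ upPts r w' := by
    intro y e c hc hpos hy i j hij
    by_contra hne'
    have h1 := hrel y i j hne'
    refine hne' (hy i j ?_)
    rw [hc, hc]
    by_contra hle
    rw [not_lt] at hle
    have h2 : 0 ≤ e * (wt a b i - wt a b j) := by rw [mul_sub]; linarith
    have h3 : 0 ≤ ρ * (wt a b i₀ - wt a b j₀) * e * (e * (wt a b i - wt a b j)) := mul_nonneg hpos.le h2
    have h4 : ρ * (wt a b i₀ - wt a b j₀) * e * (e * (wt a b i - wt a b j)) =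
        ((wt a b i₀ - wt a b j₀) * e) ^ 2 * (w' i - w' j) := by linear_combination -(e ^ 2 * (wt a b i₀ - wt a b j₀)) * h1
    have h5 : 0 < ((wt a b i₀ - wt a b j₀) * e) ^ 2 := by
      have : (wt a b i₀ - wt a b j₀) * e ≠ 0 := fun h => by rw [_root_.mul_assoc, h, mul_zero] at hpos; exact lt_irrefl _ hpos
      positivity
    rw [h4] at h3
    nlinarith [nonneg_of_mul_nonneg_right h3 h5]
  rcases lt_or_gt_of_ne hρ0 with hneg | hpos
  · -- the same direction
    have hBB : ∀ x ∈ upPts r (wt a b), ∃ y, y ≫ iB' = x := fun x hx => hsub x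
      (hscale x 1 b (fun i => (_root_.one_mul _).symm) (by
        rw [_root_.mul_one]; exact mul_pos_of_neg_of_neg hneg (sub_neg.2 hn₀)) hx)
    obtain ⟨y, hy⟩ := hx₀B
    obtain ⟨y', hy'⟩ := mem_borel_of_mem C hdiag hB' hB (fun τ => ⟨τ ≫ t, by rw [Category.assoc, ht]⟩)
      (fun x hx z hz => lim_mem_torus C hG hT hdiag (fun i j h => hsep i j (by
        rw [wt_neg] at h; exact neg_injective h)) x hx z hz)
      (fun x hx => ⟨hBB x hx, hBU x hx⟩) y
    exact ⟨y', hy'.trans hy⟩
  · exact hsub x₀ (hscale x₀ (-1) (-b) (fun i => by rw [wt_neg, neg_one_mul]) (by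
      nlinarith [sub_neg.2 hn₀]) hx₀)

end Groth.Agent.BorelLam21
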