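import Groth.Agent.Lib.BorelLam21.Rank
import Groth.Agent.Lib.TorPts21.WeylFixed

/-!
# No contracted point of a group with all weights on a line lies in the opposite Borel subgroup
-/

set_option autoImplicit false
set_option linter.style.haveILetI false
set_option backward.isDefEq.respectTransparency.types false
universe u

open CategoryTheory Limits MonoidalCategory CartesianMonoidalCategory MonObj AlgebraicGeometry Polynomial

noncomputable section

namespace Groth.Agent.BorelLam21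

open MatGrp21 InvRing21 DiagGL TorPts21 BigCell21

attribute [local instance] InvRing21.gamAlg BorelFix21.ptsTop

variable {k : Type u} [Field k] [IsAlgClosed k] {n d : ℕ} {G T : Over (Spec (CommRingCat.of k))} [GrpObj G]
  [GrpObj T] [IsAffine G.left] [Smooth G.hom] [ConnectedSpace G.left] {iT : T ⟶ G} (C : Chars (Fin d → ℤ) T)
  {r : G ⟶ GLs k n} [IsMonHom r] [IsClosedImmersion r.left] {a : Fin n → Fin d → ℤ} {b : Fin d → ℤ}
  (hG : Red.IsReductiveOver k G) (hT : AGF.IsMaxTorus iT)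
  (hdiag : ∀ τ : VecGrp.pt k k ⟶ T, (mtxFn r (τ ≫ iT) : Matrix (Fin n) (Fin n) k) =
    Matrix.diagonal fun j => ptChr C τ (Multiplicative.ofAdd (a j)))
  (hsep : ∀ i j, wt a b i = wt a b j → a i = a j)

include hdiag hsep hG hT in
set_option maxHeartbeats 1600000 in
theorem false_of_line (i₀ j₀ : Fin n) (hn₀ : wt a b i₀ < wt a b j₀)
    (hline : ∀ (y : VecGrp.pt k k ⟶ G) i j, (mtxFn r y : Matrix (Fin n) (Fin n) k) i j ≠ 0 → ∀ b' : Fin d → ℤ,
      (wt a b i₀ - wt a b j₀) * (wt a b' i - wt a b' j) = (wt a b' i₀ - wt a b' j₀) * (wt a b i - wt a b j))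
    (x₀ : VecGrp.pt k k ⟶ G) (hx₀ : x₀ ∈ upPts₁ r (wt a (-b)))
    (hne : (mtxFn r x₀ : Matrix (Fin n) (Fin n) k) i₀ j₀ ≠ 0)
    {B : Over (Spec (CommRingCat.of k))} [GrpObj B] {iB : B ⟶ G} (hB : Red.IsBorelOver k iB)
    (hBU : ∀ x ∈ upPts r (wt a b), ∃ y, y ≫ iB = x) (hx₀B : ∃ y, y ≫ iB = x₀) (t : T ⟶ B) (ht : t ≫ iB = iT) :
    False := by
  haveI := hT.1
  -- the group of all such points
  let K : Subgroup (VecGrp.pt k k ⟶ G) :=
    { carrier := {y | y ∈ upPts₁ r (wt a (-b)) ∧ ∀ (B' : Over (Spec (CommRingCat.of k))) (_ : GrpObj B') (iB' : B' ⟶ G)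
        (t' : T ⟶ B'), Red.IsBorelOver k iB' → t' ≫ iB' = iT → ∃ z, z ≫ iB' = y}
      one_mem' := ⟨one_mem _, fun B' _ iB' _ hB' _ => ⟨1, by haveI := hB'.1; exact MonObj.one_comp iB'⟩⟩
      mul_mem' := fun {x y} hx hy => ⟨mul_mem hx.1 hy.1, fun B' _ iB' t' hB' ht' => by
        haveI := hB'.1
        obtain ⟨z, hz⟩ := hx.2 B' _ iB' t' hB' ht'
        obtain ⟨w, hw⟩ := hy.2 B' _ iB' t' hB' ht'
        exact ⟨z * w, by rw [MonObj.mul_comp, hz, hw]⟩⟩
      inv_mem' := fun {x} hx => ⟨inv_mem hx.1, fun B' _ iB' t' hB' ht' => by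
        haveI := hB'.1
        obtain ⟨z, hz⟩ := hx.2 B' _ iB' t' hB' ht'
        exact ⟨z⁻¹, by rw [GrpObj.inv_comp, hz]⟩⟩ }
  have hx₀K : x₀ ∈ K := ⟨hx₀, fun B' _ iB' t' hB' ht' =>
    mem_borels_of_line C hG hT hdiag hsep i₀ j₀ hn₀ hline x₀ hx₀.1 hne hB hBU hx₀B t ht hB' t' ht'⟩
  have hcl : IsClosed (K : Set (VecGrp.pt k k ⟶ G)) := by
    have : (K : Set (VecGrp.pt k k ⟶ G)) = (upPts₁ r (wt a (-b)) : Set (VecGrp.pt k k ⟶ G)) ∩
        ⋂ (B' : Over (Spec (CommRingCat.of k))) (_ : GrpObj B') (iB' : B' ⟶ G) (t' : T ⟶ B')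
          (_ : Red.IsBorelOver k iB') (_ : t' ≫ iB' = iT), Set.range fun z : VecGrp.pt k k ⟶ B' => z ≫ iB' := by
      ext y
      simp [K]
    rw [this]
    refine (isClosed_upPts₁ _).inter (isClosed_iInter fun B' => isClosed_iInter fun _ => isClosed_iInter fun iB' =>
      isClosed_iInter fun _ => isClosed_iInter fun hB' => isClosed_iInter fun _ => ?_)
    haveI := hB'.2.1
    haveI := hB'.2.2.1
    exact isClosed_pts iB'
  have hone : ∀ {M : Matrix (Fin n) (Fin n) k}, IsUp₁ (wt a (-b)) M → curveAt (wt a (-b)) M 0 = 1 := fun {M} hM => by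
    ext i j
    rw [curveAt_zero_apply hM.1]
    split_ifs with e
    · exact hM.2 i j e
    · exact (Matrix.one_apply_ne fun e' => e (congrArg (wt a (-b)) e')).symm
  obtain ⟨lam, hlam⟩ := exists_lam C hdiag (r := r) (iT := iT) (a := a) (-b)
  have hconj : ∀ y ∈ K, ∀ s, (lam s ≫ iT) * y * (lam s ≫ iT)⁻¹ ∈ K := fun y hy s => by
    have hls : lam s ≫ iT ∈ upPts r (wt a (-b)) := torus_mem_upPts C hdiag (-b) (lam s) _ rfl
    have hy1 : y ∈ upPts r (wt a (-b)) := hy.1.1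
    refine ⟨⟨(mul_mem (mul_mem hls hy1) (inv_mem hls) :
        (lam s ≫ iT) * y * (lam s ≫ iT)⁻¹ ∈ upPts r (wt a (-b))), fun i j h => ?_⟩,
      fun B' _ iB' t' hB' ht' => ?_⟩
    · rw [conj_lam hlam hy.1.1, curveAt_apply, show (wt a (-b) i - wt a (-b) j).toNat = 0 by rw [h]; simp, pow_zero,
        _root_.mul_one]
      exact hy.1.2 i j h
    · haveI := hB'.1
      obtain ⟨z, hz⟩ := hy.2 B' _ iB' t' hB' ht'
      exact ⟨(lam s ≫ t') * z * (lam s ≫ t')⁻¹, by
        rw [MonObj.mul_comp, MonObj.mul_comp, GrpObj.inv_comp, Category.assoc, ht', hz]⟩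
  obtain ⟨H, _, j, hj, hjc, hjs, hrange, hpts⟩ := exists_closed_subgroup_of_pts K hcl
  haveI := hj
  haveI := hjc
  haveI := hjs
  haveI : IsAffine H.left := isAffine_of_isAffineHom j.left
  haveI : ConnectedSpace H.left := by
    have hpre : IsPreconnected (K : Set (VecGrp.pt k k ⟶ G)) := by
      refine (isClosedEmbedding_mtxFn r).isInducing.isPreconnected_image.1 (isPreconnected_of_forall 1 ?_)
      rintro _ ⟨y, hy, rfl⟩
      have hcurve : ∀ s, ∃ g : GL (Fin n) k, (g : Matrix (Fin n) (Fin n) k) =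
          (curve (wt a (-b)) (mtxFn r y : Matrix (Fin n) (Fin n) k)).map (eval s) := fun s => exists_curveGL hy.1.1 s
      refine ⟨{g | ∃ s, (g : Matrix (Fin n) (Fin n) k) =
          (curve (wt a (-b)) (mtxFn r y : Matrix (Fin n) (Fin n) k)).map (eval s)}, ?_, ⟨0, ?_⟩,
        ⟨1, (curveAt_one _ _).symm⟩, isPreconnected_curve _ hcurve⟩
      · rintro g ⟨s, hs⟩
        obtain ⟨z, hzK, -, hz⟩ := exists_curve_pt hlam hy.1.1 hcl (hconj y hy) s
        exact ⟨z, hzK, Units.ext (hz.trans hs.symm)⟩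
      · rw [Units.val_one]
        exact (hone hy.1).symm
    have h1 : _root_.IsConnected (Set.range j.left) := by
      rw [hrange]
      exact ⟨(Set.Nonempty.image _ ⟨1, one_mem K⟩).closure,
        (hpre.image InvRing21.img continuous_induced_dom.continuousOn).closure⟩
    exact j.left.isClosedEmbedding.isEmbedding.toHomeomorph.symm.connectedSpace_iff.1
      (isConnected_iff_connectedSpace.1 h1)
  haveI : IsClosedImmersion (j ≫ r).left := by rw [Over.comp_left]; infer_instance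
  have hns : Red.HasNoSubtorus k H := hasNoSubtorus_of_unip (j ≫ r) fun x => by
    rw [mtx_comp, mtx_apply]
    exact isUnip_of_isUp₁ ((hpts _).1 ⟨x, rfl⟩).1
  obtain ⟨U, _, u, hU, -⟩ := exists_unipotentRadical_connected G
  obtain ⟨hum, huc, hun, hus, -, hucn, huns, -⟩ := (isUnipotentRadical_iff u).1 hU
  haveI := hum
  obtain ⟨f, hf⟩ := exists_lift_unipotentRadical hU hT j hns fun B' _ iB' t' hB' ht' => by
    haveI := hB'.2.1
    haveI := hB'.2.2.1
    exact exists_lift_of_pts iB' j fun x => ((hpts _).1 ⟨x, rfl⟩).2 B' _ iB' t' hB' ht'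
  obtain ⟨x, hx⟩ := (hpts x₀).2 hx₀K
  rw [← hf, ← Category.assoc, eq_one_of_isTrivialGrp (hG.2.2.2 U u huc hus hucn hun huns) (x ≫ f),
    MonObj.one_comp] at hx
  rw [← hx, ← mtx_apply, map_one, Units.val_one] at hne
  exact hne (Matrix.one_apply_ne fun e => hn₀.ne (congrArg (wt a b) e))

end Groth.Agent.BorelLam21
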