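import Groth.Agent.Lib.BorelLam21.Groups

/-!
# Contracted points with support on one ray of weights
-/

set_option autoImplicit false
set_option linter.style.haveILetI false
set_option backward.isDefEq.respectTransparency.types false
universe u

open CategoryTheory Limits MonoidalCategory CartesianMonoidalCategory MonObj AlgebraicGeometry

noncomputable section

namespace Groth.Agent.BorelLam21

open MatGrp21 InvRing21 DiagGL TorPts21 BigCell21

attribute [local instance] InvRing21.gamAlg BorelFix21.ptsTop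

variable {k : Type u} [Field k] [IsAlgClosed k] {n d : ℕ} {G T : Over (Spec (CommRingCat.of k))} [GrpObj G]
  [GrpObj T] [IsAffine G.left]

/-- The places of the nonzero entries between different weights. -/
def supp (w : Fin n → ℤ) (M : Matrix (Fin n) (Fin n) k) : Finset (Fin n × Fin n) :=
  open Classical in Finset.univ.filter fun e => w e.1 ≠ w e.2 ∧ M e.1 e.2 ≠ 0

omit [IsAlgClosed k] in
theorem mem_supp {w : Fin n → ℤ} {M : Matrix (Fin n) (Fin n) k} {e : Fin n × Fin n} :
    e ∈ supp w M ↔ w e.1 ≠ w e.2 ∧ M e.1 e.2 ≠ 0 := by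
  classical
  simp [supp]

omit [IsAlgClosed k] in
theorem eq_one_of_supp_eq_empty {w : Fin n → ℤ} {M : Matrix (Fin n) (Fin n) k} (hM : IsUp₁ w M)
    (h : supp w M = ∅) : M = 1 := by
  ext i j
  by_cases hw : w i = w j
  · exact hM.2 i j hw
  · rw [Matrix.one_apply_ne fun e => hw (congrArg w e)]
    by_contra hne
    have : (i, j) ∈ supp w M := mem_supp.2 ⟨hw, hne⟩
    rw [h] at this
    exact absurd this (Finset.notMem_empty _)

omit [IsAlgClosed k] in
theorem wt_sub (a : Fin n → Fin d → ℤ) (b : Fin d → ℤ) (i j : Fin n) :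
    wt a b i - wt a b j = TorPts21.pairing (a i - a j) b := by
  simp only [wt, TorPts21.pairing, Pi.sub_apply, sub_mul, Finset.sum_sub_distrib]

omit [IsAlgClosed k] in
theorem pairing_comb (z b b' : Fin d → ℤ) (x y : ℤ) :
    TorPts21.pairing z (x • b' - y • b) = x * TorPts21.pairing z b' - y * TorPts21.pairing z b := by
  simp only [TorPts21.pairing, Pi.sub_apply, Pi.smul_apply, smul_eq_mul, mul_sub, Finset.sum_sub_distrib,
    Finset.mul_sum]
  congr 1 <;> exact Finset.sum_congr rfl fun _ _ => by ring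

/-- Proportionality of all the weights of the support. -/
def IsRay (a : Fin n → Fin d → ℤ) (b : Fin d → ℤ) (s : Finset (Fin n × Fin n)) : Prop :=
  ∀ e ∈ s, ∀ e' ∈ s, ∀ b' : Fin d → ℤ,
    TorPts21.pairing (a e.1 - a e.2) b' * TorPts21.pairing (a e'.1 - a e'.2) b =
      TorPts21.pairing (a e'.1 - a e'.2) b' * TorPts21.pairing (a e.1 - a e.2) b

variable {iT : T ⟶ G} (C : Chars (Fin d → ℤ) T) {r : G ⟶ GLs k n} [IsMonHom r] [IsClosedImmersion r.left]
  {a : Fin n → Fin d → ℤ} {b : Fin d → ℤ}
  (hdiag : ∀ τ : VecGrp.pt k k ⟶ T, (mtxFn r (τ ≫ iT) : Matrix (Fin n) (Fin n) k) =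
    Matrix.diagonal fun j => ptChr C τ (Multiplicative.ofAdd (a j)))

include hdiag in
/-- A closed group of points containing the torus and a contracted point contains one with support on a ray. -/
theorem exists_ray (K : Subgroup (VecGrp.pt k k ⟶ G)) (hK : IsClosed (K : Set (VecGrp.pt k k ⟶ G)))
    (hKT : ∀ τ : VecGrp.pt k k ⟶ T, τ ≫ iT ∈ K) (x : VecGrp.pt k k ⟶ G) (hxK : x ∈ K)
    (hx : IsUp₁ (wt a b) (mtxFn r x : Matrix (Fin n) (Fin n) k)) (hne : x ≠ 1) :
    ∃ y ∈ K, IsUp₁ (wt a b) (mtxFn r y : Matrix (Fin n) (Fin n) k) ∧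
      (supp (wt a b) (mtxFn r y : Matrix (Fin n) (Fin n) k)).Nonempty ∧
      IsRay a b (supp (wt a b) (mtxFn r y : Matrix (Fin n) (Fin n) k)) := by
  classical
  have hne' : (supp (wt a b) (mtxFn r x : Matrix (Fin n) (Fin n) k)).Nonempty := by
    rw [Finset.nonempty_iff_ne_empty]
    intro h
    exact hne (mtxFn_injective r (Units.ext (by
      rw [eq_one_of_supp_eq_empty hx h, ← mtx_apply, map_one, Units.val_one])))
  generalize hm : (supp (wt a b) (mtxFn r x : Matrix (Fin n) (Fin n) k)).card = m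
  induction m using Nat.strong_induction_on generalizing x with
  | _ m ih =>
    set M := (mtxFn r x : Matrix (Fin n) (Fin n) k) with hM
    by_cases hray : IsRay a b (supp (wt a b) M)
    · exact ⟨x, hxK, hx, hne', hray⟩
    have hpos : ∀ e ∈ supp (wt a b) M, 0 < TorPts21.pairing (a e.1 - a e.2) b := fun e he => by
      obtain ⟨hw, hne⟩ := mem_supp.1 he
      rw [← wt_sub]
      rcases lt_or_gt_of_ne hw with h | h
      · exact absurd (hx.1 _ _ h) hne
      · exact sub_pos.2 h
    simp only [IsRay, not_forall] at hray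
    obtain ⟨e₁, he₁, e₂, he₂, b', hb'⟩ := hray
    let f : Fin n × Fin n → ℚ := fun e =>
      (TorPts21.pairing (a e.1 - a e.2) b' : ℚ) / (TorPts21.pairing (a e.1 - a e.2) b : ℚ)
    obtain ⟨e₀, he₀, hmin⟩ := Finset.exists_min_image (supp (wt a b) M) f hne'
    set c : Fin d → ℤ := TorPts21.pairing (a e₀.1 - a e₀.2) b • b' - TorPts21.pairing (a e₀.1 - a e₀.2) b' • b
    have hc : ∀ e : Fin n × Fin n, TorPts21.pairing (a e.1 - a e.2) c =
        TorPts21.pairing (a e₀.1 - a e₀.2) b * TorPts21.pairing (a e.1 - a e.2) b' -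
          TorPts21.pairing (a e₀.1 - a e₀.2) b' * TorPts21.pairing (a e.1 - a e.2) b := fun e => pairing_comb _ _ _ _ _
    have hnonneg : ∀ e ∈ supp (wt a b) M, 0 ≤ TorPts21.pairing (a e.1 - a e.2) c := fun e he => by
      have h1 := hmin e he
      simp only [f] at h1
      rw [div_le_div_iff₀ (by exact_mod_cast hpos e₀ he₀) (by exact_mod_cast hpos e he)] at h1
      rw [hc]
      have h2 : TorPts21.pairing (a e₀.1 - a e₀.2) b' * TorPts21.pairing (a e.1 - a e.2) b ≤
          TorPts21.pairing (a e.1 - a e.2) b' * TorPts21.pairing (a e₀.1 - a e₀.2) b := by exact_mod_cast h1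
      nlinarith
    have hxc : x ∈ upPts r (wt a c) := fun i j h => by
      by_contra hne
      by_cases hw : wt a b i = wt a b j
      · have := hx.2 i j hw
        by_cases hij : i = j
        · rw [hij] at h; exact lt_irrefl _ h
        · exact hne (this.trans (Matrix.one_apply_ne hij))
      · have := hnonneg (i, j) (mem_supp.2 ⟨hw, hne⟩)
        rw [← wt_sub] at this
        exact absurd h (not_lt.2 (sub_nonneg.1 this))
    obtain ⟨lam, hlam⟩ := exists_lam C hdiag (r := r) (iT := iT) (a := a) c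
    obtain ⟨y, hyK, -, hye⟩ := exists_curve_pt hlam hxc hK
      (fun s => K.mul_mem (K.mul_mem (hKT _) hxK) (K.inv_mem (hKT _))) 0
    have hy : ∀ i j, (mtxFn r y : Matrix (Fin n) (Fin n) k) i j = if wt a c i = wt a c j then M i j else 0 :=
      fun i j => by rw [hye]; exact curveAt_zero_apply hxc i j
    have hyUp : IsUp₁ (wt a b) (mtxFn r y : Matrix (Fin n) (Fin n) k) := by
      refine ⟨fun i j h => ?_, fun i j h => ?_⟩
      · rw [hy]; split_ifs
        · exact hx.1 i j h
        · rfl
      · rw [hy]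
        by_cases hij : i = j
        · subst hij; rw [if_pos rfl]; exact hx.2 i i rfl
        · rw [hx.2 i j h, Matrix.one_apply_ne hij, ite_self]
    have hsub : supp (wt a b) (mtxFn r y : Matrix (Fin n) (Fin n) k) ⊆ supp (wt a b) M := fun e he => by
      obtain ⟨hw, hne⟩ := mem_supp.1 he
      rw [hy] at hne
      split_ifs at hne with h
      · exact mem_supp.2 ⟨hw, hne⟩
      · exact absurd rfl hne
    have hy0 : e₀ ∈ supp (wt a b) (mtxFn r y : Matrix (Fin n) (Fin n) k) := by
      obtain ⟨hw, hne⟩ := mem_supp.1 he₀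
      refine mem_supp.2 ⟨hw, ?_⟩
      rwa [hy, if_pos (sub_eq_zero.1 (by rw [wt_sub, hc]; ring))]
    have hlt : supp (wt a b) (mtxFn r y : Matrix (Fin n) (Fin n) k) ⊂ supp (wt a b) M := by
      refine ⟨hsub, fun hsup => hb' ?_⟩
      have key : ∀ e ∈ supp (wt a b) M, TorPts21.pairing (a e₀.1 - a e₀.2) b * TorPts21.pairing (a e.1 - a e.2) b' =
          TorPts21.pairing (a e₀.1 - a e₀.2) b' * TorPts21.pairing (a e.1 - a e.2) b := fun e he => by
        obtain ⟨hw, hne⟩ := mem_supp.1 (hsup he)
        rw [hy] at hne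
        split_ifs at hne with h
        · have := hc e
          rw [← wt_sub, sub_eq_zero.2 h] at this
          exact sub_eq_zero.1 this.symm
        · exact absurd rfl hne
      have k1 := key e₁ he₁
      have k2 := key e₂ he₂
      refine mul_left_cancel₀ (hpos e₀ he₀).ne' ?_
      linear_combination TorPts21.pairing (a e₂.1 - a e₂.2) b * k1 - TorPts21.pairing (a e₁.1 - a e₁.2) b * k2
    refine ih _ (hm ▸ Finset.card_lt_card hlt) y hyK hyUp (fun h1 => ?_) ⟨e₀, hy0⟩ rfl
    obtain ⟨hw, hne⟩ := mem_supp.1 hy0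
    rw [h1, ← mtx_apply, map_one, Units.val_one, Matrix.one_apply_ne fun e => hw (congrArg (wt a b) e)] at hne
    exact hne rfl

end Groth.Agent.BorelLam21
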